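import Cfsg.Agent.H11.CyLp
import Cfsg.Agent.H20.ElSp

/-! Project CY, chapter LP, piece SP: an involution centraliser `2 . L₂(q)` with a non-square centre. -/

set_option autoImplicit false

namespace Cfsg.Agent.H87.CyLpSp

open Subgroup Cfsg.Agent.H11.EL Cfsg.Agent.H20.ElSp
open scoped MatrixGroups

theorem sp : Cfsg.Agent.H11.Cy.Lp.SPStmt := by
  intro G _ _ _ y u hG hy hs ⟨K, _, _, hK, φ, hφ, hk⟩ h5 hu
  have hodd : Odd (Nat.card K) := by
    rw [Nat.card_eq_fintype_card]
    exact Nat.odd_iff.2 (FiniteField.odd_card_of_char_ne_two hK)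
  have yC : y ∈ C1 y := mem_centralizer_singleton_iff.2 rfl
  obtain ⟨⟨e⟩, h2⟩ := split hodd φ hφ (y := ⟨y, yC⟩) (by rw [← hy, orderOf_mk])
    (fun g => Subtype.ext (mem_centralizer_singleton_iff.1 g.2))
    (fun g => (hk g).trans ⟨fun ⟨k, h⟩ => ⟨k, Subtype.ext h⟩, fun ⟨k, h⟩ => ⟨k, congrArg Subtype.val h⟩⟩)
    fun x h => hs x (congrArg Subtype.val h)
  have hF : 3 < Fintype.card K := by
    by_contra h
    have h1 : 1 < Fintype.card K := Fintype.one_lt_card
    rw [Nat.card_eq_fintype_card] at hodd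
    have h3 : Fintype.card K = 3 := by obtain ⟨k, hk⟩ := hodd; omega
    have h4 := H28.card_PSL2 h3
    rw [Nat.card_congr e.toEquiv, Nat.card_prod, Nat.card_eq_fintype_card] at h5
    norm_num at h4 h5
    omega
  have := psl_simple hF
  have := H29.finite_PSL2 (F := K)
  have hO : oddCore (C1 y) = ⊥ := sSup_eq_bot.2 fun N ⟨hN, ho⟩ => by
    have h1 := odd_bot h2 (N.map e.toMonoidHom) (hN.map _ e.surjective)
      (by rwa [card_map_of_injective e.injective])
    exact (map_eq_bot_iff_of_injective _ e.injective).1 h1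
  let e1 : C1 y ⧸ oddCore (C1 y) ≃* Multiplicative (ZMod 2) × PSL(2, K) :=
    ((QuotientGroup.quotientMulEquivOfEq hO).trans QuotientGroup.quotientBot).trans e
  obtain ⟨S, hS⟩ := (IsPGroup.of_card (p := 2) (n := 2) (G := zpowers u)
    (by rw [Nat.card_zpowers, hu]; rfl)).exists_le_sylow
  have h6 := (S3216.result hG y hy hF
    ⟨((MulEquiv.subgroupCongr (clos_top h2 e1)).trans topEquiv).trans e1⟩ S).2 u (hS (mem_zpowers u))
  have h7 := orderOf_dvd_of_pow_eq_one h6
  rw [hu] at h7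
  omega

end Cfsg.Agent.H87.CyLpSp
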