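import Cfsg.Agent.H42.HtDefs

/-!
# Project HT: the split cases do not occur
-/

set_option autoImplicit false

namespace Cfsg.Agent.H87.HtSPK

open Cfsg Cfsg.Agent.H63 Cfsg.Agent.H63.SL Cfsg.Agent.H63.AN Subgroup
open Cfsg.Agent.H7.AA (ev d2 Acts KA NA ev_mul ev_conj ev_comm ev_one ev_cj ev_eq_one KA_ev)
open Cfsg.Agent.H42.HT
open Equiv (swap Perm)
open Equiv.Perm (sign)
open scoped commutatorElement

universe u

variable {G : Type u} [Group G]

theorem rr_comm {W r x m : G} (h : Rr W r x) (hw : Commute m W) (hr : Commute m r) :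
    Commute m x := by
  rcases h with rfl | rfl | rfl | rfl
  exacts [Commute.one_right _, hw, hr, hr.mul_right hw]

theorem low {β : A8 →* G} {W r t k x : G} {L : Subgroup G} (S : Sp β W r L) (hk : k ∈ L)
    (hx : Rr W r x) (e : t = k * x) (tt : t * t = 1) (ww : W * W = 1) (rr : r * r = W)
    (rw' : Commute r W) : x = 1 ∨ x = W := by
  have c := rr_comm hx (S.cw k hk) (S.cr k hk)
  have key : x * x = W → False := fun h => S.nw (by
    have : k * k * W = 1 := by rw [← h, ← tt, e, ← sq, ← sq, ← sq, c.mul_pow]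
    have m := inv_mem (mul_mem hk hk)
    rwa [inv_eq_of_mul_eq_one_right this] at m)
  rcases hx with h | h | rfl | rfl
  · exact .inl h
  · exact .inr h
  · exact (key rr).elim
  · exact (key (by rw [← sq, rw'.mul_pow, sq, sq, rr, ww, mul_one])).elim

theorem exo {β : A8 →* G} {W r t k x g : G} {L : Subgroup G} (S : Sp β W r L) (hk : k ∈ L)
    (hx : x = 1 ∨ x = W) (e : t = k * x) (hg : g ∈ Mr W r) (gt : g * t * g⁻¹ = t * W)
    (gw : Commute g W) : False := by
  have m : g * k * g⁻¹ ∈ L := (mem_normalizer_iff.1 (S.nrm hg) k).1 hk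
  have c : Commute g x ∧ Commute x W := by
    rcases hx with rfl | rfl
    exacts [⟨Commute.one_right _, Commute.one_left _⟩, ⟨gw, Commute.refl _⟩]
  have e1 : g * k * g⁻¹ * x = k * W * x := by
    calc g * k * g⁻¹ * x = g * k * (g⁻¹ * x) := by group
      _ = g * (k * x) * g⁻¹ := by rw [c.1.inv_left.eq]; group
      _ = _ := by rw [← e, gt, e, mul_assoc, c.2.eq, mul_assoc]
  rw [mul_right_cancel e1] at m
  exact S.nw (by simpa using mul_mem (inv_mem hk) m)

theorem spk : SpkStmt.{u} := by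
  intro _ G _ _ ψ t F _ τ h C L
  have sw : sign w = 1 := by decide
  have sv : sign v = 1 := by decide
  have s2 : sign w2 = 1 := by decide
  have tc : ∀ σ, Commute t (ev ψ σ) := fun σ => KA_ev F.tK σ
  have ww : ev ψ w * ev ψ w = 1 := by rw [← ev_mul sw sw, show w * w = 1 by decide, ev_one]
  have vv : ev ψ v * ev ψ v = 1 := by rw [← ev_mul sv sv, show v * v = 1 by decide, ev_one]
  have w22 : ev ψ w2 * ev ψ w2 = 1 := by rw [← ev_mul s2 s2, show w2 * w2 = 1 by decide, ev_one]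
  have vw : Commute (ev ψ v) (ev ψ w) := ev_comm sv sw (by decide)
  have ττ : τ * τ = 1 := by
    rw [← C.ht]
    calc h * t * h⁻¹ * (h * t * h⁻¹) = h * (t * t) * h⁻¹ := by group
      _ = 1 := by rw [F.t2]; group
  have τw : Commute τ (ev ψ w) := C.d1.ac.comm sw (by decide)
  have vτ : ev ψ v * τ = ev ψ w * τ * ev ψ v := by
    have := F.cls τ _ C.d1.cm C.d1.ac v sv
    rw [show v * swap 0 1 * v⁻¹ * (swap 0 1)⁻¹ = w by decide] at this
    rw [← this]; group
  have ρρ : τ * ev ψ v * (τ * ev ψ v) = ev ψ w := by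
    calc τ * ev ψ v * (τ * ev ψ v) = τ * (ev ψ v * τ) * ev ψ v := by group
      _ = τ * ev ψ w * τ * (ev ψ v * ev ψ v) := by rw [vτ]; group
      _ = _ := by rw [vv, τw.eq, mul_one, mul_assoc, ττ, mul_one]
  have ρw : Commute (τ * ev ψ v) (ev ψ w) := τw.mul_left vw
  have tρ : Commute t (τ * ev ψ v) := C.d1.cm.symm.mul_right (tc v)
  have t2 : Is2 t := ⟨1, by rw [pow_one, sq, F.t2]⟩
  refine ⟨fun n2 h4 r hr S => ?_, fun g X hτ hg => ⟨fun S => ?_, fun S => ?_⟩⟩
  · have tr : Commute t r := by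
      rcases hr with rfl | rfl
      exacts [tc v, tρ]
    obtain ⟨k, hk, x, hx, e⟩ := S.dec t (tc w) tr t2
    obtain ⟨ξ, sξ, ξξ, cξ, rfl⟩ : ∃ ξ : P, sign ξ = 1 ∧ ξ * ξ = 1 ∧ ξ * w2 = w2 * ξ ∧
        x = ev ψ ξ := by
      have a1 : x = 1 → ∃ ξ : P, sign ξ = 1 ∧ ξ * ξ = 1 ∧ ξ * w2 = w2 * ξ ∧ x = ev ψ ξ :=
        fun k => ⟨1, by decide, by decide, by decide, k.trans ev_one.symm⟩
      have a2 : x = ev ψ w → ∃ ξ : P, sign ξ = 1 ∧ ξ * ξ = 1 ∧ ξ * w2 = w2 * ξ ∧ x = ev ψ ξ :=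
        fun k => ⟨w, sw, by decide, by decide, k⟩
      rcases hr with rfl | rfl
      · rcases hx with k | k | k | k
        · exact a1 k
        · exact a2 k
        · exact ⟨v, sv, by decide, by decide, k⟩
        · exact ⟨v * w, by decide, by decide, by decide, k.trans (ev_mul sv sw).symm⟩
      · exact (low S.toSp hk hx e F.t2 ww ρρ ρw).elim a1 a2
    have xx : ev ψ ξ * ev ψ ξ = 1 := by rw [← ev_mul sξ sξ, ξξ, ev_one]
    have ek : k = t * ev ψ ξ := by rw [e, mul_assoc, xx, mul_one]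
    have hw2 : ev ψ w2 ∈ L := by
      have := S.hA w2'
      rwa [bt_apply, ev_cj, show (w2' : P) = w2 from rfl,
        (C.hB w2 (H78.mem_altOn.2 (by decide))).eq, mul_inv_cancel_right] at this
    have ord : ∀ σ : P, sign σ = 1 → σ * σ = 1 → orderOf (t * ev ψ σ) = 2 := fun σ sσ σσ => by
      have e2 : ev ψ σ * ev ψ σ = 1 := by rw [← ev_mul sσ sσ, σσ, ev_one]
      refine orderOf_eq_prime (by rw [(tc σ).mul_pow, sq, sq, F.t2, e2, mul_one]) fun k => ?_
      refine F.tn σ ?_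
      rw [← inv_eq_of_mul_eq_one_right k, inv_eq_of_mul_eq_one_right F.t2]
    have x2 : Commute (ev ψ ξ) (ev ψ w2) := ev_comm sξ s2 cξ
    obtain ⟨m, hm, k3⟩ := S.cls k hk (k * ev ψ w2) (mul_mem hk hw2) _ hw2
      (ek ▸ ord ξ sξ ξξ) (by
        rw [ek, mul_assoc, ← ev_mul sξ s2]
        exact ord _ (by simp [sξ, s2]) (by
          rw [mul_assoc, ← mul_assoc w2, ← cξ, mul_assoc ξ w2, show w2 * w2 = 1 by decide, mul_one,
            ξξ]))
      (orderOf_eq_prime (by rw [sq, w22]) fun k => absurd (ev_eq_one F.inj s2 k) (by decide))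
    have mw := S.cw m hm
    have mx := rr_comm hx mw (S.cr m hm)
    have cj : ∀ a b y : G, Commute m y → m * a * m⁻¹ = b → IsConj (a * y) (b * y) :=
      fun a b y c k => isConj_iff.2 ⟨m, by
        rw [← k, mul_assoc (m * a), c.inv_left.eq]; group⟩
    rcases k3 with k3 | k3 | k3
    · have := cj _ _ _ mx k3
      rw [mul_assoc, ← x2.eq, ← mul_assoc, ← e] at this
      exact n2 ⟨w2, by decide, s2, by decide, this⟩
    · have := cj _ _ _ mx k3
      rw [← e, ← ev_mul s2 sξ] at this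
      exact F.nl _ this
    · have := cj _ _ _ (mx.mul_right mw) k3
      rw [← mul_assoc, mul_assoc k, ← x2.eq, ← mul_assoc, ← e, mul_assoc, ← ev_mul s2 sw,
        ← ev_mul sξ sw, ← ev_mul s2 (by simp [sξ, sw])] at this
      obtain ⟨p, pp, sp, cp, c⟩ := h4
      obtain ⟨a, sa, ea⟩ := F.typ p (w2 * w) pp (by decide) (cp.trans (by decide))
      refine F.nl _ ((c.trans (isConj_iff.2 ⟨ev ψ a, ?_⟩)).trans this)
      rw [← ea, ev_conj sa sp, ← mul_assoc, ← (tc a).eq]; group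
  · obtain ⟨k, hk, x, hx, e⟩ := S.dec t (tc w) tρ t2
    exact exo S.toSp hk (low S.toSp hk hx e F.t2 ww ρρ ρw) e hg X.gt X.gw
  · have τi : τ⁻¹ = τ := inv_eq_of_mul_eq_one_right ττ
    have mτ : τ ∈ Mr (ev ψ w) (τ * ev ψ v) := (mem_Mr ww).2 ⟨τw, .inr (by
      rw [τi, ← mul_assoc, ττ, one_mul, vτ, ← ρw.eq.symm, mul_assoc])⟩
    have et : ⁅g⁻¹, τ⁆ * (τ * ev ψ v) = t := by
      have : g⁻¹ * τ * g = t * ev ψ v := by rw [hτ]; group
      rw [commutatorElement_def, inv_inv, this, mul_assoc, inv_mul_cancel_left, mul_assoc, vv,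
        mul_one]
    obtain ⟨k, hk, x, hx, e⟩ := S.dec _ (inv_mem hg) _ mτ _ (.inr (.inr (.inl rfl))) (et ▸ t2)
    rw [et] at e
    exact exo S.toSp hk (low S.toSp hk hx e F.t2 ww ρρ ρw) e hg X.gt X.gw

end Cfsg.Agent.H87.HtSPK
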