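import Cfsg.Agent.H78.G40B

/-! Project L40G, piece F1B: the Sylow 2-subgroup of `L₄(3)`. -/

set_option autoImplicit false

namespace Cfsg.Agent.H87.G40F1b

open Subgroup Cfsg.Agent.H83 Cfsg.Agent.H46.L40 Cfsg.Agent.H78.G40

/-- packing of a list -/
def pkL : List ℕ → ℕ
  | [] => 0
  | a :: l => a + 4 * pkL l

theorem pkL_dig : ∀ (l : List ℕ), (∀ a ∈ l, a < 4) → ∀ k, pkL l / 4 ^ k % 4 = l.getD k 0
  | [], _, k => by simp [pkL]
  | a :: l, h, 0 => by
    have := h a (List.mem_cons_self ..)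
    simp only [pkL, pow_zero, Nat.div_one, List.getD_cons_zero]
    omega
  | a :: l, h, k + 1 => by
    have h1 := h a (List.mem_cons_self ..)
    have h2 : (a + 4 * pkL l) / 4 = pkL l := by omega
    rw [List.getD_cons_succ, ← pkL_dig l (fun b hb => h b (List.mem_cons_of_mem _ hb)) k, pkL,
      pow_succ', ← Nat.div_div_eq_div_mul, h2]

/-- packing -/
def pk (f : Fin 4 → Fin 4 → ℕ) : ℕ :=
  pkL [f 0 0, f 0 1, f 0 2, f 0 3, f 1 0, f 1 1, f 1 2, f 1 3, f 2 0, f 2 1, f 2 2, f 2 3,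
    f 3 0, f 3 1, f 3 2, f 3 3]

/-- digits -/
def dg (c : ℕ) (i j : Fin 4) : ℕ := c / 4 ^ (4 * i.1 + j.1) % 4

theorem dg_pk (f : Fin 4 → Fin 4 → ℕ) (hf : ∀ i j, f i j < 4) (i j : Fin 4) :
    dg (pk f) i j = f i j := by
  unfold dg pk
  rw [pkL_dig _ (by simp [hf])]
  fin_cases i <;> fin_cases j <;> rfl

/-- the code of a matrix -/
def en (g : SL4) : ℕ := pk fun i j => (g.1 i j).val

/-- the product on codes -/
def mu (x y : ℕ) : ℕ := pk fun i j =>
  (dg x i 0 * dg y 0 j + dg x i 1 * dg y 1 j + dg x i 2 * dg y 2 j + dg x i 3 * dg y 3 j) % 3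

theorem dg_en (g : SL4) (i j : Fin 4) : dg (en g) i j = (g.1 i j).val :=
  dg_pk _ (fun i j => (ZMod.val_lt (g.1 i j)).trans (by norm_num)) i j

theorem en_inj {g h : SL4} (e : en g = en h) : g = h := by
  apply Subtype.ext
  ext i j
  apply ZMod.val_injective
  rw [← dg_en, ← dg_en, e]

theorem en_mul (g h : SL4) : en (g * h) = mu (en g) (en h) := by
  unfold mu
  simp only [dg_en]
  unfold en
  congr 1
  funext i j
  rw [← ZMod.val_natCast]
  congr 1
  rw [Matrix.SpecialLinearGroup.coe_mul, Matrix.mul_apply, Fin.sum_univ_four]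
  push_cast
  simp only [ZMod.natCast_val, ZMod.cast_id', id_eq]

/-- lifts -/
def sH : SL4 := ⟨!![1, 0, 0, 0; 0, 1, 0, 0; 0, 0, 0, 1; 0, 0, 2, 0], by decide +kernel⟩
/-- lifts -/
def qH : SL4 := ⟨!![1, 0, 0, 0; 0, 1, 0, 0; 0, 0, 1, 1; 0, 0, 1, 2], by decide +kernel⟩
/-- lifts -/
def wH : SL4 := ⟨!![0, 0, 1, 0; 0, 0, 0, 1; 1, 0, 0, 0; 0, 1, 0, 0], by decide +kernel⟩
/-- lifts -/
def vH : SL4 := ⟨!![0, 0, 1, 1; 0, 0, 2, 1; 2, 1, 0, 0; 2, 2, 0, 0], by decide +kernel⟩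
/-- minus one -/
def mH : SL4 := ⟨-1, by decide +kernel⟩

/-- the generators -/
noncomputable def gen : ℕ → SL4
  | 0 => E1 w0
  | 1 => E1 q0
  | 2 => sH
  | 3 => qH
  | 4 => wH
  | 5 => E1 a0
  | _ => 1

/-- their codes -/
def gc : ℕ → ℕ
  | 0 => 1074790916
  | 1 => 1074792709
  | 2 => 541066241
  | 3 => 2421163009
  | 4 => 67190800
  | 5 => 1075841025
  | _ => 1074791425

theorem en_one : en 1 = 1074791425 := by decide +kernel
theorem en_m : en mH = 2149582850 := by decide +kernel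
theorem en_z : en (E1 z0) = 1074792450 := by decide +kernel
theorem en_v : en vH = 168190032 := by decide +kernel

theorem en_gen : ∀ i, en (gen i) = gc i
  | 0 => by decide +kernel
  | 1 => by decide +kernel
  | 2 => by decide +kernel
  | 3 => by decide +kernel
  | 4 => by decide +kernel
  | 5 => by decide +kernel
  | _ + 6 => en_one

theorem gc4 : ∀ i, mu (gc i) (mu (gc i) (mu (gc i) (gc i))) = 1074791425
  | 0 => by decide +kernel
  | 1 => by decide +kernel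
  | 2 => by decide +kernel
  | 3 => by decide +kernel
  | 4 => by decide +kernel
  | 5 => by decide +kernel
  | _ + 6 => show mu 1074791425 (mu 1074791425 (mu 1074791425 1074791425)) = 1074791425 by
      decide +kernel

theorem gen_inv (i : ℕ) : (gen i)⁻¹ = gen i * (gen i * gen i) :=
  inv_eq_of_mul_eq_one_right (en_inj (by rw [en_mul, en_mul, en_mul, en_gen, gc4, en_one]))

/-- the group generated by the first `n` generators -/
def KK (n : ℕ) : Subgroup SL4 := closure {x | ∃ i < n, x = gen i}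

/-- evaluation of words -/
def ev (w : List ℕ) : ℕ := w.foldr (fun i c => mu (gc i) c) 1074791425

theorem key (n : ℕ) (L : List ℕ) (W : List (List ℕ)) (h1 : 1074791425 ∈ L)
    (hcl : ((List.range n).all fun i => L.all fun c => L.elem (mu (gc i) c)) = true)
    (hW : W.map ev = L) (hn : (W.all fun w => w.all fun i => decide (i < n)) = true) (g : SL4) :
    g ∈ KK n ↔ en g ∈ L := by
  have hcl' : ∀ i < n, ∀ g : SL4, en g ∈ L → en (gen i * g) ∈ L := by
    intro i hi g hg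
    rw [en_mul, en_gen]
    exact List.mem_of_elem_eq_true
      (List.all_eq_true.1 (List.all_eq_true.1 hcl i (List.mem_range.2 hi)) _ hg)
  constructor
  · intro hg
    induction hg using closure_induction_left with
    | one => rw [en_one]; exact h1
    | mul_left x hx y _ ih =>
      obtain ⟨i, hi, rfl⟩ := hx
      exact hcl' i hi y ih
    | inv_mul_cancel x hx y _ ih =>
      obtain ⟨i, hi, rfl⟩ := hx
      rw [gen_inv, mul_assoc, mul_assoc]
      exact hcl' i hi _ (hcl' i hi _ (hcl' i hi _ ih))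
  · intro hg
    rw [← hW, List.mem_map] at hg
    obtain ⟨w, hw, e⟩ := hg
    have h2 := List.all_eq_true.1 hn w hw
    have h3 : ∀ w : List ℕ, (w.all fun i => decide (i < n)) = true →
        ∃ k ∈ KK n, en k = ev w := by
      intro w
      induction w with
      | nil => exact fun _ => ⟨1, one_mem _, en_one⟩
      | cons i w ih =>
        intro h
        rw [List.all_cons, Bool.and_eq_true, decide_eq_true_eq] at h
        obtain ⟨k, hk, e⟩ := ih h.2
        exact ⟨gen i * k, mul_mem (subset_closure ⟨i, h.1, rfl⟩) hk, by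
          rw [en_mul, en_gen, e]; rfl⟩
    obtain ⟨k, hk, e'⟩ := h3 w h2
    rwa [← en_inj (e'.trans e)]

theorem card_KK (n : ℕ) (L : List ℕ) (h : ∀ g, g ∈ KK n ↔ en g ∈ L)
    (hs : ∀ c ∈ L, ∃ g, en g = c) (hL : L.Nodup) : Nat.card (KK n) = L.length := by
  rw [← List.toFinset_card_of_nodup hL, ← Nat.card_eq_finsetCard]
  refine Nat.card_congr (Equiv.ofBijective
    (fun g => ⟨en g.1, List.mem_toFinset.2 ((h g.1).1 g.2)⟩) ⟨?_, ?_⟩)
  · intro a b e
    exact Subtype.ext (en_inj (Subtype.mk.inj e))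
  · rintro ⟨c, hc⟩
    obtain ⟨g, rfl⟩ := hs c (List.mem_toFinset.1 hc)
    exact ⟨⟨g, (h g).2 (List.mem_toFinset.1 hc)⟩, rfl⟩

theorem ev_en (w : List ℕ) : ∃ g, en g = ev w := by
  induction w with
  | nil => exact ⟨1, en_one⟩
  | cons i w ih =>
    obtain ⟨k, e⟩ := ih
    exact ⟨gen i * k, by rw [en_mul, en_gen, e]; rfl⟩

/-- codes -/
def LQ : List ℕ :=
  [1074791425, 1074790916, 1074792709, 541066241, 2421163009, 1074792450, 1074791686, 541065732,
   2421162500, 1074792969, 541067525, 2421164293, 2149581825, 1348469761, 2693792769, 1074790664,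
   1074791946, 541067266, 2421164034, 541066502, 2421163270, 2149581316, 1348469252, 2693792260,
   541067785, 2421164553, 2149583109, 1348471045, 2693794053, 276825089, 1621099521, 541065480,
   2421162248, 541066762, 2421163530, 2149582850, 1348470786, 2693793794, 2149582086, 1348470022,
   2693793030, 276824580, 1621099012, 2149583369, 1348471305, 2693794313, 276826373, 1621100805,
   2149581064, 1348469000, 2693792008, 2149582346, 1348470282, 2693793290, 276826114, 1621100546,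
   276825350, 1621099782, 276826633, 1621101065, 276824328, 1621098760, 276825610, 1621100042]

/-- words -/
def WQ : List (List ℕ) :=
  [[], [0], [1], [2], [3], [0, 0], [1, 0], [2, 0], [3, 0], [0, 1], [2, 1], [3, 1], [2, 2], [3, 2],
   [2, 3], [0, 0, 0], [1, 0, 0], [2, 0, 0], [3, 0, 0], [2, 1, 0], [3, 1, 0], [2, 2, 0], [3, 2, 0],
   [2, 3, 0], [2, 0, 1], [3, 0, 1], [2, 2, 1], [3, 2, 1], [2, 3, 1], [2, 2, 2], [3, 2, 2], [2, 0,
   0, 0], [3, 0, 0, 0], [2, 1, 0, 0], [3, 1, 0, 0], [2, 2, 0, 0], [3, 2, 0, 0], [2, 3, 0, 0], [2,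
   2, 1, 0], [3, 2, 1, 0], [2, 3, 1, 0], [2, 2, 2, 0], [3, 2, 2, 0], [2, 2, 0, 1], [3, 2, 0, 1],
   [2, 3, 0, 1], [2, 2, 2, 1], [3, 2, 2, 1], [2, 2, 0, 0, 0], [3, 2, 0, 0, 0], [2, 3, 0, 0, 0],
   [2, 2, 1, 0, 0], [3, 2, 1, 0, 0], [2, 3, 1, 0, 0], [2, 2, 2, 0, 0], [3, 2, 2, 0, 0], [2, 2, 2,
   1, 0], [3, 2, 2, 1, 0], [2, 2, 2, 0, 1], [3, 2, 2, 0, 1], [2, 2, 2, 0, 0, 0], [3, 2, 2, 0, 0,
   0], [2, 2, 2, 1, 0, 0], [3, 2, 2, 1, 0, 0]]

/-- codes -/
def LU : List ℕ :=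
  [1074791425, 1074790916, 1074792709, 541066241, 2421163009, 67190800, 1074792450, 1074791686,
   541065732, 2421162500, 33832976, 1074792969, 541067525, 2421164293, 151339024, 2149581825,
   1348469761, 67182656, 2693792769, 67211344, 1074790664, 1074791946, 541067266, 2421164034,
   134365200, 541066502, 2421163270, 84295696, 2149581316, 1348469252, 33824832, 2693792260,
   33853520, 541067785, 2421164553, 168378384, 2149583109, 1348471045, 151330880, 2693794053,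
   151359568, 276825089, 1621099521, 67207200, 67194976, 67215504, 541065480, 2421162248,
   17317904, 541066762, 2421163530, 101335056, 2149582850, 1348470786, 134357056, 2693793794,
   134385744, 2149582086, 1348470022, 84287552, 2693793030, 84316240, 276824580, 1621099012,
   33849376, 33837152, 33857680, 2149583369, 1348471305, 168370240, 2693794313, 168398928,
   276826373, 1621100805, 151355424, 151343200, 151363728, 67178624, 67199136, 2149581064,
   1348469000, 17309760, 2693792008, 17338448, 2149582346, 1348470282, 101326912, 2693793290,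
   101355600, 276826114, 1621100546, 134381600, 134369376, 134389904, 276825350, 1621099782,
   84312096, 84299872, 84320400, 33820800, 33841312, 276826633, 1621101065, 168394784, 168382560,
   168403088, 151326848, 151347360, 276824328, 1621098760, 17334304, 17322080, 17342608,
   276825610, 1621100042, 101351456, 101339232, 101359760, 134353024, 134373536, 84283520,
   84304032, 168366208, 168386720, 17305728, 17326240, 101322880, 101343392]

/-- words -/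
def WU : List (List ℕ) :=
  [[], [0], [1], [2], [3], [4], [0, 0], [1, 0], [2, 0], [3, 0], [4, 0], [0, 1], [2, 1], [3, 1],
   [4, 1], [2, 2], [3, 2], [4, 2], [2, 3], [4, 3], [0, 0, 0], [1, 0, 0], [2, 0, 0], [3, 0, 0], [4,
   0, 0], [2, 1, 0], [3, 1, 0], [4, 1, 0], [2, 2, 0], [3, 2, 0], [4, 2, 0], [2, 3, 0], [4, 3, 0],
   [2, 0, 1], [3, 0, 1], [4, 0, 1], [2, 2, 1], [3, 2, 1], [4, 2, 1], [2, 3, 1], [4, 3, 1], [2, 2,
   2], [3, 2, 2], [4, 2, 2], [4, 3, 2], [4, 2, 3], [2, 0, 0, 0], [3, 0, 0, 0], [4, 0, 0, 0], [2,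
   1, 0, 0], [3, 1, 0, 0], [4, 1, 0, 0], [2, 2, 0, 0], [3, 2, 0, 0], [4, 2, 0, 0], [2, 3, 0, 0],
   [4, 3, 0, 0], [2, 2, 1, 0], [3, 2, 1, 0], [4, 2, 1, 0], [2, 3, 1, 0], [4, 3, 1, 0], [2, 2, 2,
   0], [3, 2, 2, 0], [4, 2, 2, 0], [4, 3, 2, 0], [4, 2, 3, 0], [2, 2, 0, 1], [3, 2, 0, 1], [4, 2,
   0, 1], [2, 3, 0, 1], [4, 3, 0, 1], [2, 2, 2, 1], [3, 2, 2, 1], [4, 2, 2, 1], [4, 3, 2, 1], [4,
   2, 3, 1], [4, 2, 2, 2], [4, 3, 2, 2], [2, 2, 0, 0, 0], [3, 2, 0, 0, 0], [4, 2, 0, 0, 0], [2, 3,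
   0, 0, 0], [4, 3, 0, 0, 0], [2, 2, 1, 0, 0], [3, 2, 1, 0, 0], [4, 2, 1, 0, 0], [2, 3, 1, 0, 0],
   [4, 3, 1, 0, 0], [2, 2, 2, 0, 0], [3, 2, 2, 0, 0], [4, 2, 2, 0, 0], [4, 3, 2, 0, 0], [4, 2, 3,
   0, 0], [2, 2, 2, 1, 0], [3, 2, 2, 1, 0], [4, 2, 2, 1, 0], [4, 3, 2, 1, 0], [4, 2, 3, 1, 0], [4,
   2, 2, 2, 0], [4, 3, 2, 2, 0], [2, 2, 2, 0, 1], [3, 2, 2, 0, 1], [4, 2, 2, 0, 1], [4, 3, 2, 0,
   1], [4, 2, 3, 0, 1], [4, 2, 2, 2, 1], [4, 3, 2, 2, 1], [2, 2, 2, 0, 0, 0], [3, 2, 2, 0, 0, 0],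
   [4, 2, 2, 0, 0, 0], [4, 3, 2, 0, 0, 0], [4, 2, 3, 0, 0, 0], [2, 2, 2, 1, 0, 0], [3, 2, 2, 1, 0,
   0], [4, 2, 2, 1, 0, 0], [4, 3, 2, 1, 0, 0], [4, 2, 3, 1, 0, 0], [4, 2, 2, 2, 0, 0], [4, 3, 2,
   2, 0, 0], [4, 2, 2, 2, 1, 0], [4, 3, 2, 2, 1, 0], [4, 2, 2, 2, 0, 1], [4, 3, 2, 2, 0, 1], [4,
   2, 2, 2, 0, 0, 0], [4, 3, 2, 2, 0, 0, 0], [4, 2, 2, 2, 1, 0, 0], [4, 3, 2, 2, 1, 0, 0]]

/-- codes -/
def LT : List ℕ :=
  [1074791425, 1074790916, 1074792709, 541066241, 2421163009, 67190800, 1075841025, 1074792450,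
   1074791686, 541065732, 2421162500, 33832976, 1075839236, 1074792969, 541067525, 2421164293,
   151339024, 1075840517, 2149581825, 1348469761, 67182656, 545261569, 2693792769, 67211344,
   2426406913, 67272720, 1075839496, 1075840265, 272631809, 2690648065, 134299680, 1074790664,
   1074791946, 541067266, 2421164034, 134365200, 1075840002, 541066502, 2421163270, 84295696,
   1075841542, 2149581316, 1348469252, 33824832, 545259780, 2693792260, 33853520, 2426405124,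
   34111504, 272630020, 2690646276, 17055776, 541067785, 2421164553, 168378384, 2149583109,
   1348471045, 151330880, 545261061, 2693794053, 151359568, 2426406405, 151683088, 272631301,
   2690647557, 101007392, 276825089, 1621099521, 67207200, 2148534273, 67194976, 1351616513,
   67244096, 545260040, 545260809, 134291584, 67215504, 67264592, 2426405384, 2426406153,
   134320288, 67248256, 67260560, 17072144, 168198160, 2148533250, 1075841290, 272630280,
   2690646536, 34095136, 272631049, 2690647305, 84492320, 1615857665, 134287424, 134324320,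
   134381600, 541065480, 2421162248, 17317904, 541066762, 2421163530, 101335056, 2149582850,
   1348470786, 134357056, 545260546, 2693793794, 134385744, 2426405890, 134316048, 272630786,
   2690647042, 67256352, 2149582086, 1348470022, 84287552, 545262086, 2693793030, 84316240,
   2426407430, 84508688, 272632326, 2690648582, 168181792, 276824580, 1621099012, 33849376,
   2148532484, 33837152, 1351614724, 34082880, 17047680, 33857680, 34103376, 17076384, 34087040,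
   34099344, 2148532744, 1615855876, 17043520, 17080416, 17334304, 2149583369, 1348471305,
   168370240, 2693794313, 168398928, 276826373, 1621100805, 151355424, 2148533765, 151343200,
   1351616005, 151654464, 100999296, 151363728, 151674960, 101028000, 151658624, 151670928,
   2148534538, 1615857157, 100995136, 101032032, 101351456, 67178624, 67199136, 2148533513,
   67280992, 1351614984, 1351615753, 134303888, 168169536, 545261834, 84484224, 134353024,
   17064016, 168190032, 1615856642, 2426407178, 34115744, 84512928, 134373536, 67276960,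
   168173696, 17059984, 168186000, 1351615490, 101023760, 2148534790, 272632074, 2690648330,
   151666720, 1615856136, 276824328, 34119776, 2693792008, 1615856905, 84480064, 276826633,
   84516960, 84312096, 134307920, 134369376, 2149581064, 1348469000, 17309760, 17338448,
   2149582346, 1348470282, 101326912, 2693793290, 101355600, 276826114, 1621100546, 134389904,
   276825350, 1621099782, 84299872, 1351617030, 84320400, 84500560, 168202400, 84496528,
   1615858182, 168206432, 168394784, 33820800, 33841312, 17305728, 17326240, 17322080, 1621101065,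
   168382560, 168403088, 151326848, 151347360, 151691360, 101011600, 101322880, 1615857930,
   101343392, 151687328, 1351616778, 101015632, 101339232, 84283520, 84304032, 168366208,
   17342608, 276825610, 1621098760, 1621100042, 101359760, 168386720]

/-- words -/
def WT : List (List ℕ) :=
  [[], [0], [1], [2], [3], [4], [5], [0, 0], [1, 0], [2, 0], [3, 0], [4, 0], [5, 0], [0, 1], [2,
   1], [3, 1], [4, 1], [5, 1], [2, 2], [3, 2], [4, 2], [5, 2], [2, 3], [4, 3], [5, 3], [5, 4], [0,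
   5], [1, 5], [2, 5], [3, 5], [4, 5], [0, 0, 0], [1, 0, 0], [2, 0, 0], [3, 0, 0], [4, 0, 0], [5,
   0, 0], [2, 1, 0], [3, 1, 0], [4, 1, 0], [5, 1, 0], [2, 2, 0], [3, 2, 0], [4, 2, 0], [5, 2, 0],
   [2, 3, 0], [4, 3, 0], [5, 3, 0], [5, 4, 0], [2, 5, 0], [3, 5, 0], [4, 5, 0], [2, 0, 1], [3, 0,
   1], [4, 0, 1], [2, 2, 1], [3, 2, 1], [4, 2, 1], [5, 2, 1], [2, 3, 1], [4, 3, 1], [5, 3, 1], [5,
   4, 1], [2, 5, 1], [3, 5, 1], [4, 5, 1], [2, 2, 2], [3, 2, 2], [4, 2, 2], [5, 2, 2], [4, 3, 2],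
   [5, 3, 2], [5, 4, 2], [0, 5, 2], [1, 5, 2], [4, 5, 2], [4, 2, 3], [5, 4, 3], [0, 5, 3], [1, 5,
   3], [4, 5, 3], [0, 5, 4], [1, 5, 4], [2, 5, 4], [3, 5, 4], [4, 5, 4], [1, 0, 5], [2, 0, 5], [3,
   0, 5], [4, 0, 5], [2, 1, 5], [3, 1, 5], [4, 1, 5], [3, 2, 5], [4, 2, 5], [4, 3, 5], [5, 4, 5],
   [2, 0, 0, 0], [3, 0, 0, 0], [4, 0, 0, 0], [2, 1, 0, 0], [3, 1, 0, 0], [4, 1, 0, 0], [2, 2, 0,
   0], [3, 2, 0, 0], [4, 2, 0, 0], [5, 2, 0, 0], [2, 3, 0, 0], [4, 3, 0, 0], [5, 3, 0, 0], [5, 4,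
   0, 0], [2, 5, 0, 0], [3, 5, 0, 0], [4, 5, 0, 0], [2, 2, 1, 0], [3, 2, 1, 0], [4, 2, 1, 0], [5,
   2, 1, 0], [2, 3, 1, 0], [4, 3, 1, 0], [5, 3, 1, 0], [5, 4, 1, 0], [2, 5, 1, 0], [3, 5, 1, 0],
   [4, 5, 1, 0], [2, 2, 2, 0], [3, 2, 2, 0], [4, 2, 2, 0], [5, 2, 2, 0], [4, 3, 2, 0], [5, 3, 2,
   0], [5, 4, 2, 0], [4, 5, 2, 0], [4, 2, 3, 0], [5, 4, 3, 0], [4, 5, 3, 0], [0, 5, 4, 0], [1, 5,
   4, 0], [4, 5, 4, 0], [3, 2, 5, 0], [4, 2, 5, 0], [4, 3, 5, 0], [5, 4, 5, 0], [2, 2, 0, 1], [3,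
   2, 0, 1], [4, 2, 0, 1], [2, 3, 0, 1], [4, 3, 0, 1], [2, 2, 2, 1], [3, 2, 2, 1], [4, 2, 2, 1],
   [5, 2, 2, 1], [4, 3, 2, 1], [5, 3, 2, 1], [5, 4, 2, 1], [4, 5, 2, 1], [4, 2, 3, 1], [5, 4, 3,
   1], [4, 5, 3, 1], [0, 5, 4, 1], [1, 5, 4, 1], [4, 5, 4, 1], [3, 2, 5, 1], [4, 2, 5, 1], [4, 3,
   5, 1], [5, 4, 5, 1], [4, 2, 2, 2], [4, 3, 2, 2], [1, 5, 2, 2], [5, 4, 3, 2], [0, 5, 3, 2], [1,
   5, 3, 2], [4, 5, 3, 2], [3, 5, 4, 2], [1, 0, 5, 2], [4, 1, 5, 2], [5, 4, 5, 2], [2, 5, 4, 3],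
   [3, 5, 4, 3], [4, 5, 4, 3], [1, 0, 5, 3], [4, 0, 5, 3], [4, 1, 5, 3], [5, 4, 5, 3], [1, 0, 5,
   4], [3, 0, 5, 4], [2, 1, 5, 4], [3, 1, 5, 4], [4, 1, 5, 4], [3, 2, 5, 4], [4, 3, 5, 4], [2, 1,
   0, 5], [3, 1, 0, 5], [4, 1, 0, 5], [3, 2, 0, 5], [5, 2, 0, 5], [4, 3, 0, 5], [5, 3, 0, 5], [3,
   2, 1, 5], [4, 2, 1, 5], [5, 2, 1, 5], [4, 3, 1, 5], [5, 4, 1, 5], [4, 3, 2, 5], [5, 4, 3, 5],
   [2, 2, 0, 0, 0], [3, 2, 0, 0, 0], [4, 2, 0, 0, 0], [4, 3, 0, 0, 0], [2, 2, 1, 0, 0], [3, 2, 1,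
   0, 0], [4, 2, 1, 0, 0], [2, 3, 1, 0, 0], [4, 3, 1, 0, 0], [2, 2, 2, 0, 0], [3, 2, 2, 0, 0], [4,
   2, 3, 0, 0], [2, 2, 2, 1, 0], [3, 2, 2, 1, 0], [4, 3, 2, 1, 0], [5, 3, 2, 1, 0], [4, 2, 3, 1,
   0], [5, 4, 3, 1, 0], [4, 5, 3, 1, 0], [1, 5, 4, 1, 0], [3, 2, 5, 1, 0], [4, 3, 5, 1, 0], [5, 4,
   5, 1, 0], [4, 2, 2, 2, 0], [4, 3, 2, 2, 0], [5, 4, 5, 2, 0], [5, 4, 5, 3, 0], [5, 4, 3, 5, 0],
   [3, 2, 2, 0, 1], [4, 3, 2, 0, 1], [4, 2, 3, 0, 1], [4, 2, 2, 2, 1], [4, 3, 2, 2, 1], [5, 4, 3,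
   2, 1], [4, 5, 3, 2, 1], [5, 4, 5, 2, 1], [4, 5, 4, 3, 1], [5, 4, 5, 3, 1], [1, 0, 5, 4, 1], [4,
   1, 5, 4, 1], [4, 3, 2, 5, 1], [5, 4, 3, 5, 1], [5, 4, 1, 5, 2], [5, 4, 1, 5, 3], [5, 3, 0, 5,
   4], [5, 2, 1, 5, 4], [5, 2, 1, 0, 5], [5, 3, 2, 0, 5], [3, 2, 2, 1, 0, 0], [4, 2, 3, 1, 0, 0],
   [5, 4, 5, 3, 1, 0]]

theorem wQ : WQ.map ev = LQ := by decide +kernel
theorem wU : WU.map ev = LU := by decide +kernel
theorem wT : WT.map ev = LT := by decide +kernel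

theorem memQ (g : SL4) : g ∈ KK 4 ↔ en g ∈ LQ :=
  key 4 LQ WQ (by decide +kernel) (by decide +kernel) wQ (by decide +kernel) g
theorem memU (g : SL4) : g ∈ KK 5 ↔ en g ∈ LU :=
  key 5 LU WU (by decide +kernel) (by decide +kernel) wU (by decide +kernel) g
theorem memT (g : SL4) : g ∈ KK 6 ↔ en g ∈ LT :=
  key 6 LT WT (by decide +kernel) (by decide +kernel) wT (by decide +kernel) g

theorem cardU : Nat.card (KK 5) = 128 :=
  card_KK 5 LU memU (fun c hc => by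
    rw [← wU, List.mem_map] at hc
    obtain ⟨w, -, rfl⟩ := hc
    exact ev_en w) (by decide +kernel)

set_option maxRecDepth 100000 in
theorem cardT : Nat.card (KK 6) = 256 :=
  card_KK 6 LT memT (fun c hc => by
    rw [← wT, List.mem_map] at hc
    obtain ⟨w, -, rfl⟩ := hc
    exact ev_en w) (by decide +kernel)

theorem mk_eq (x y : SL4) : mk1 x = mk1 y ↔ x = y ∨ x = mH * y := by
  rw [mk1_eq]
  refine or_congr ⟨fun h => Subtype.ext h, fun h => by rw [h]⟩ ⟨fun h => Subtype.ext ?_, fun h => ?_⟩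
  · rw [h]; change _ = -1 * y.1; simp
  · rw [h]; change -1 * y.1 = _; simp

theorem m_comm (x : SL4) : mH * x = x * mH := Subtype.ext (by change -1 * x.1 = x.1 * -1; simp)

theorem m_sq : mH * mH = 1 := Subtype.ext (by change (-1 : Matrix _ _ _) * -1 = 1; simp)

theorem m_ne : mH ≠ 1 := fun h => by
  have := congrArg en h
  rw [en_m, en_one] at this
  omega

theorem mem_map {K : Subgroup SL4} (hm : mH ∈ K) (g : SL4) : mk1 g ∈ K.map mk1 ↔ g ∈ K := by
  constructor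
  · rintro ⟨k, hk, e⟩
    rcases (mk_eq _ _).1 e.symm with rfl | rfl
    · exact hk
    · exact mul_mem hm hk
  · exact fun h => ⟨g, h, rfl⟩

theorem card_map {K : Subgroup SL4} (hm : mH ∈ K) : Nat.card K = 2 * Nat.card (K.map mk1) := by
  have hk : ∀ x, x ∈ mk1.ker ↔ x = 1 ∨ x = mH := fun x => by
    rw [MonoidHom.mem_ker, ← map_one mk1, mk_eq, mul_one]
  have hle : mk1.ker ≤ K := fun x hx => by
    rcases (hk x).1 hx with rfl | rfl
    exacts [one_mem _, hm]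
  have h2 : Nat.card mk1.ker = 2 := by
    rw [Nat.card_eq_two_iff' (1 : mk1.ker)]
    refine ⟨⟨mH, (hk _).2 (Or.inr rfl)⟩, fun h => m_ne (congrArg Subtype.val h), ?_⟩
    rintro ⟨y, hy⟩ h
    rcases (hk y).1 hy with rfl | rfl
    · exact absurd rfl h
    · rfl
  rw [← relIndex_ker, ← h2, ← Nat.card_congr (subgroupOfEquivOfLe hle).toEquiv]
  exact (card_mul_index _).symm

theorem eQ : Qq e1 σ1 dd1 = (KK 4).map mk1 := by
  rw [KK, MonoidHom.map_closure, Qq]
  congr 1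
  ext x
  constructor
  · rintro (rfl | rfl | rfl | rfl)
    exacts [⟨_, ⟨0, by omega, rfl⟩, rfl⟩, ⟨_, ⟨1, by omega, rfl⟩, rfl⟩,
      ⟨_, ⟨2, by omega, rfl⟩, rfl⟩, ⟨_, ⟨3, by omega, rfl⟩, rfl⟩]
  · rintro ⟨_, ⟨i, hi, rfl⟩, rfl⟩
    interval_cases i
    exacts [Or.inl rfl, Or.inr (Or.inl rfl), Or.inr (Or.inr (Or.inl rfl)),
      Or.inr (Or.inr (Or.inr rfl))]

theorem eU : Uq e1 σ1 dd1 = (KK 5).map mk1 := by
  rw [KK, MonoidHom.map_closure, Uq]
  congr 1
  ext x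
  constructor
  · rintro (rfl | rfl | rfl | rfl | rfl)
    exacts [⟨_, ⟨0, by omega, rfl⟩, rfl⟩, ⟨_, ⟨1, by omega, rfl⟩, rfl⟩,
      ⟨_, ⟨2, by omega, rfl⟩, rfl⟩, ⟨_, ⟨3, by omega, rfl⟩, rfl⟩, ⟨_, ⟨4, by omega, rfl⟩, rfl⟩]
  · rintro ⟨_, ⟨i, hi, rfl⟩, rfl⟩
    interval_cases i
    exacts [Or.inl rfl, Or.inr (Or.inl rfl), Or.inr (Or.inr (Or.inl rfl)),
      Or.inr (Or.inr (Or.inr (Or.inl rfl))), Or.inr (Or.inr (Or.inr (Or.inr rfl)))]

theorem eT : Tq e1 σ1 dd1 = (KK 6).map mk1 := by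
  rw [KK, MonoidHom.map_closure, Tq]
  congr 1
  ext x
  constructor
  · rintro (rfl | rfl | rfl | rfl | rfl | rfl)
    exacts [⟨_, ⟨0, by omega, rfl⟩, rfl⟩, ⟨_, ⟨1, by omega, rfl⟩, rfl⟩,
      ⟨_, ⟨2, by omega, rfl⟩, rfl⟩, ⟨_, ⟨3, by omega, rfl⟩, rfl⟩, ⟨_, ⟨4, by omega, rfl⟩, rfl⟩,
      ⟨_, ⟨5, by omega, rfl⟩, rfl⟩]
  · rintro ⟨_, ⟨i, hi, rfl⟩, rfl⟩
    interval_cases i
    exacts [Or.inl rfl, Or.inr (Or.inl rfl), Or.inr (Or.inr (Or.inl rfl)),
      Or.inr (Or.inr (Or.inr (Or.inl rfl))), Or.inr (Or.inr (Or.inr (Or.inr (Or.inl rfl)))),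
      Or.inr (Or.inr (Or.inr (Or.inr (Or.inr rfl))))]

theorem mQ : mH ∈ KK 4 := (memQ _).2 (by rw [en_m]; decide +kernel)
theorem mU : mH ∈ KK 5 := (memU _).2 (by rw [en_m]; decide +kernel)
theorem mT : mH ∈ KK 6 := (memT _).2 (by rw [en_m]; decide +kernel)

theorem cu : Nat.card (Uq e1 σ1 dd1) = 64 := by
  have := card_map mU
  rw [cardU, ← eU] at this
  omega

theorem ct : Nat.card (Tq e1 σ1 dd1) = 128 := by
  have := card_map mT
  rw [cardT, ← eT] at this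
  omega

theorem chkZ : (LT.all fun c => mu c 1074792450 == mu 1074792450 c ||
    mu c 1074792450 == mu 2149582850 (mu 1074792450 c)) = true := by decide +kernel

theorem chkR : (LT.all fun c => !(mu c c == 1074792450 || mu c c == mu 2149582850 1074792450) ||
    LQ.elem c) = true := by decide +kernel

theorem chkM : (LU.all fun c => !(mu c c == 1074791425) || c == 1074791425 || c == 2149582850 ||
    !(mu (mu c 1074792450) (mu c 1074792450) == 1074791425) || mu c 1074792450 == 1074791425 ||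
    mu c 1074792450 == 2149582850) = true := by decide +kernel

theorem z_sq : E1 z0 * E1 z0 = 1 := en_inj (by rw [en_mul, en_z, en_one]; decide +kernel)

theorem conj_z {g : SL4} (h : IsConj (e1 z0) (mk1 g)) : g * g = 1 ∧ g ≠ 1 ∧ g ≠ mH := by
  obtain ⟨c, hc⟩ := isConj_iff.1 h
  obtain ⟨k, rfl⟩ := QuotientGroup.mk'_surjective _ c
  have h1 : mk1 g = mk1 (k * E1 z0 * k⁻¹) := by
    rw [← hc, map_mul, map_mul, map_inv]; rfl
  have h2 : k * E1 z0 * k⁻¹ * (k * E1 z0 * k⁻¹) = 1 := by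
    rw [show k * E1 z0 * k⁻¹ * (k * E1 z0 * k⁻¹) = k * (E1 z0 * E1 z0) * k⁻¹ by group, z_sq]
    group
  have h3 : mk1 g ≠ 1 := by
    intro e
    rw [e, mul_inv_eq_one, mul_eq_left] at hc
    have h4 : mk1 (E1 z0) = mk1 1 := hc
    rcases (mk_eq _ _).1 h4 with h5 | h5
    · have := congrArg en h5
      rw [en_z, en_one] at this
      omega
    · have := congrArg en h5
      rw [mul_one, en_z, en_m] at this
      omega
  refine ⟨?_, fun e => h3 (by rw [e, map_one]), fun e => h3 ?_⟩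
  · rcases (mk_eq _ _).1 h1 with e | e
    · rw [e, h2]
    · rw [e, mul_assoc, ← mul_assoc _ mH, ← m_comm, mul_assoc, h2, mul_one, m_sq]
  · rw [e, ← map_one mk1, mk_eq]
    exact Or.inr (mul_one _).symm

theorem f1b : F1bS := by
  intro hm
  have hfin : Finite X1 := Nat.finite_of_card_ne_zero (by rw [hm.2.2]; norm_num)
  have : Fact (Nat.Prime 2) := ⟨Nat.prime_two⟩
  refine ⟨cu, ct, ?_, ?_, ?_, ?_, ?_, ?_, ?_, ?_⟩
  · refine isSylowIn_of_not_dvd_relIndex le_top (IsPGroup.of_card (n := 7) ct) ?_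
    have := (Tq e1 σ1 dd1).card_mul_index
    rw [ct, hm.2.2] at this
    rw [relIndex_top_right]
    omega
  · rw [eT]
    rintro _ ⟨g, hg, rfl⟩
    rw [mem_centralizer_singleton_iff]
    change mk1 g * mk1 (E1 z0) = mk1 (E1 z0) * mk1 g
    rw [← map_mul, ← map_mul, mk_eq]
    have := List.all_eq_true.1 chkZ _ ((memT g).1 hg)
    rw [Bool.or_eq_true, beq_iff_eq, beq_iff_eq] at this
    refine this.imp (fun h => en_inj ?_) fun h => en_inj ?_
    · rwa [en_mul, en_mul, en_z]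
    · rwa [en_mul, en_mul, en_mul, en_z, en_m]
  · rw [eU]
    intro h
    have := (memU _).1 ((mem_map mU (gen 5)).1 h)
    rw [en_gen] at this
    revert this
    decide +kernel
  · rw [eQ]
    intro h
    have := (memQ _).1 ((mem_map mQ (gen 4)).1 h)
    rw [en_gen] at this
    revert this
    decide +kernel
  · rw [eQ]
    intro h
    have := (memQ _).1 ((mem_map mQ vH).1 h)
    rw [en_v] at this
    revert this
    decide +kernel
  · rw [eQ]
    refine ⟨vH * gen 4 * gen 5, (memQ _).2 ?_, by rw [map_mul, map_mul]; rfl⟩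
    rw [en_mul, en_mul, en_v, en_gen, en_gen]
    decide +kernel
  · rw [eT, eQ]
    rintro _ ⟨g, hg, rfl⟩ h
    refine ⟨g, (memQ _).2 ?_, rfl⟩
    have h1 : mk1 (g * g) = mk1 (E1 z0) := by rw [map_mul]; exact h
    have h2 := List.all_eq_true.1 chkR _ ((memT g).1 hg)
    have h3 : (mu (en g) (en g) == 1074792450 ||
        mu (en g) (en g) == mu 2149582850 1074792450) = true := by
      rw [Bool.or_eq_true, beq_iff_eq, beq_iff_eq, ← en_mul]
      refine ((mk_eq _ _).1 h1).imp (fun e => ?_) fun e => ?_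
      · rw [e, en_z]
      · rw [e, en_mul, en_z, en_m]
    rw [h3, Bool.not_true, Bool.false_or] at h2
    exact List.mem_of_elem_eq_true h2
  · rw [eU]
    rintro _ ⟨g, hg, rfl⟩ h h'
    obtain ⟨a1, a2, a3⟩ := conj_z h
    obtain ⟨b1, b2, b3⟩ := conj_z (g := g * E1 z0) (by rw [map_mul]; exact h')
    have h2 := List.all_eq_true.1 chkM _ ((memU g).1 hg)
    rw [← en_z, ← en_mul, ← en_mul, ← en_mul, a1, b1, ← en_one, ← en_m] at h2
    simp only [beq_self_eq_true, Bool.not_true, Bool.false_or, Bool.or_eq_true, beq_iff_eq,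
      Bool.or_false] at h2
    rcases h2 with ((h2 | h2) | h2) | h2
    exacts [a2 (en_inj h2), a3 (en_inj h2), b2 (en_inj h2), b3 (en_inj h2)]

end Cfsg.Agent.H87.G40F1b
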