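import Cfsg.Agent.H87.CyIvb

/-! Project CY: for `p = 3`, if the fixed subspaces of line centres are good then they are lines. -/

set_option autoImplicit false

namespace Cfsg.Agent.H87.CyFz

open Subgroup MulAction Cfsg.Agent.H11.Cy Cfsg.Agent.H45.Iv Cfsg.Agent.H87.CyIvb
open scoped commutatorElement

theorem three {G : Type} [Group G] {S : Subgroup G} (hS : Nat.card S = 3) {a b : G} (ha : a ∈ S)
    (hb : b ∈ S) (a1 : a ≠ 1) (b1 : b ≠ 1) : a ^ 3 = 1 ∧ (b = a ∨ b = a⁻¹) := by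
  have : Finite S := Nat.finite_of_card_ne_zero (by omega)
  have h3 : a ^ 3 = 1 := by
    have := pow_card_eq_one' (x := (⟨a, ha⟩ : S))
    rw [hS] at this
    exact congrArg Subtype.val this
  refine ⟨h3, ?_⟩
  have : Fact (Nat.Prime 3) := ⟨Nat.prime_three⟩
  have h := mem_zpowers_of_prime_card hS (g := (⟨a, ha⟩ : S)) (g' := ⟨b, hb⟩)
    fun e => a1 (congrArg Subtype.val e)
  have o : orderOf (⟨a, ha⟩ : S) = 3 := orderOf_eq_prime (Subtype.ext h3)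
    fun e => a1 (congrArg Subtype.val e)
  classical
  rw [mem_zpowers_iff_mem_range_orderOf, o] at h
  simp only [Finset.mem_image, Finset.mem_range] at h
  obtain ⟨n, hn, e⟩ := h
  have e' : a ^ n = b := congrArg Subtype.val e
  interval_cases n
  · exact absurd (by rw [← e', pow_zero]) b1
  · exact Or.inl (by rw [← e', pow_one])
  · exact Or.inr (by rw [← e', eq_inv_iff_mul_eq_one, ← pow_succ, h3])

theorem fz (ga : GaStmt) (tg : TgStmt) (gb : GbStmt) (nof : NofStmt) (tra : TraStmt)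
    (cor : CorStmt) : All fun _ _ Ω _ p A => p = 3 → Eps A → SK A → LS A → Fpf A →
    (∀ x y, x ≠ y → Ani A x y) → (∀ x y, x ≠ y → ∀ z ∈ Zl A x y, z ≠ 1 → Good A (Fx Ω z)) →
    ∀ x y, x ≠ y → ∀ z ∈ Zl A x y, z ≠ 1 → Fx Ω z ⊆ Ln A x y := by
  intro G _ _ Ω _ _ p A h p3 ep k ls f t good
  have p2 : p ≠ 2 := by omega
  have RF : ∀ x y, x ≠ y → Rl A x y ≤ Fl A x y := fun x y hxy =>
    le_sup_left.trans (ls x y hxy).1.sup.le
  have TM : ∀ Ψ : Set Ω, Ts A Ψ ≤ Ms A Ψ := fun Ψ => commutator_le.2 fun a ha b hb =>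
    mul_mem (mul_mem (mul_mem ha hb) (inv_mem ha)) (inv_mem hb)
  -- line centres
  let C : G → Prop := fun z => ∃ x y, x ≠ y ∧ z ∈ Zl A x y ∧ z ≠ 1
  have cS : ∀ z, C z → Sub A (Fx Ω z) ∧ Good A (Fx Ω z) ∧ GB A (Fx Ω z) ∧
      (∀ d ∈ Fx Ω z, GA A (Fx Ω z) d) ∧ z * z = 1 ∧ z ∈ Cs A (Fx Ω z) := by
    rintro z ⟨x, y, hxy, hz, z1⟩
    obtain ⟨sub, lsub, zc⟩ := k.fx x y hxy z hz
    have gd := good x y hxy z hz z1
    have g := ga tg G Ω p A h p2 ep k ls f _ sub gd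
    exact ⟨sub, gd, gb G Ω p A h p2 k ls _ sub gd x (lsub (k.ln x y).1) (g x (lsub (k.ln x y).1)), g,
      (ls x y hxy).2.2.1.zsq z hz, zc⟩
  have cE : ∀ z, C z → ∀ x ∈ Fx Ω z, ∀ y ∈ Fx Ω z, x ≠ y → ∀ w ∈ Zl A x y, w ≠ 1 →
      Fx Ω w = Fx Ω z := by
    rintro z ⟨x0, y0, hxy0, hz, z1⟩ x hx y hy hxy w hw w1
    have gz := good x0 y0 hxy0 z hz z1
    have l : Fx Ω z ⊆ Fx Ω w := fun c hc => gz x hx y hy hxy w hw c hc
    have l0 := (k.fx x0 y0 hxy0 z hz).2.1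
    exact Set.Subset.antisymm (fun c hc => good x y hxy w hw w1 x0 (l (l0 (k.ln x0 y0).1)) y0
      (l (l0 (k.ln x0 y0).2)) hxy0 z hz c hc) l
  have cQ : ∀ z, C z → ∀ d ∈ Fx Ω z, ∀ u ∈ Ts A (Fx Ω z), u ∉ Cs A (Fx Ω z) →
      C (u * u) ∧ Fx Ω (u * u) = Fx Ω z := by
    intro z hz d hd u hu nu
    obtain ⟨-, -, gB, gA, -⟩ := cS z hz
    obtain ⟨y, hy, ny, r, hr, nr, kk, hk, rfl⟩ := (gA d hd).lin u hu nu
    have e := mem_centralizer_iff.1 hk.2 r ((k.fle _ d hd y hy).1 (RF _ _ ny.symm hr))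
    have e2 : r * kk * (r * kk) = r * r := by
      calc _ = r * (kk * r) * kk := by group
        _ = r * r * (kk * kk) := by rw [← e]; group
        _ = _ := by rw [gB kk hk, mul_one]
    rw [e2]
    have s := (ls d y ny.symm).2.1.sq r hr
    have s1 := t d y ny.symm r hr nr
    exact ⟨⟨d, y, ny.symm, s, s1⟩, cE z hz d hd y hy ny.symm _ s s1⟩
  have mv : ∀ z z1, C z → C z1 → (∃ b ∈ Fx Ω z1, z • b ≠ b) → ∃ d ∈ Fx Ω z, z1 • d ≠ d := by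
    rintro z z1 ⟨x, y, hxy, hz, n1⟩ h1 ⟨b, hb, mb⟩
    by_contra c
    have c' : ∀ d ∈ Fx Ω z, d ∈ Fx Ω z1 := fun d hd => by_contra fun e => c ⟨d, hd, e⟩
    have l0 := (k.fx x y hxy z hz).2.1
    exact mb ((cS z1 h1).2.1 x (c' x (l0 (k.ln x y).1)) y (c' y (l0 (k.ln x y).2)) hxy z hz b hb)
  -- no linear element
  have lA : ∀ z z1, C z → C z1 → (∃ b ∈ Fx Ω z1, z • b ≠ b) → ∀ u ∈ Ts A (Fx Ω z1),
      (∀ w, u • w ∈ Fx Ω z ↔ w ∈ Fx Ω z) →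
      (∀ d ∈ Fx Ω z, ∀ a ∈ A d, (⁅u, a⁆ : G) ∈ Ts A (Fx Ω z)) → u ∈ Cs A (Fx Ω z1) := by
    rintro z z1 hz h1 ⟨b, hb, mb⟩ u hu pu au
    by_contra nu
    obtain ⟨cu, eu⟩ := cQ z1 h1 b hb u hu nu
    obtain ⟨sub, gd, gB, gA, -⟩ := cS z hz
    obtain ⟨d, hd, md⟩ := mv z _ hz cu ⟨b, eu ▸ hb, mb⟩
    have u4 : u ^ 4 = 1 := by
      rw [← (cS _ cu).2.2.2.2.1]
      simp only [pow_succ, pow_zero, one_mul, mul_assoc]
    obtain ⟨z0, -, c0, y2, hy2, ny2, hz2, nz2⟩ := cor G Ω p A h k ls t _ sub d hd (gA d hd) gB u u4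
      pu (au d hd) md
    have zT : (⁅u, z0⁆ : G) ∈ Ts A (Fx Ω z1) := by
      have e : (⁅u, z0⁆ : G) = u * (z0 * u⁻¹ * z0⁻¹) := by
        simp only [commutatorElement_def]; group
      rw [e]
      exact mul_mem hu ((k.nrm _ z0 (eu ▸ pres c0.symm)).2.1 _ (inv_mem hu))
    generalize (⁅u, z0⁆ : G) = z2 at hz2 nz2 zT
    have zC : z2 ∈ Cs A (Fx Ω z1) := by
      by_contra c
      obtain ⟨⟨_, _, _, _, n⟩, -⟩ := cQ z1 h1 b hb z2 zT c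
      exact n ((ls d y2 ny2.symm).2.2.1.zsq z2 hz2)
    have : b ∈ Fx Ω z2 := k.csfix _ z2 zC b hb
    rw [cE z hz d hd y2 hy2 ny2.symm z2 hz2 nz2] at this
    exact mb this
  -- the action on `Ms / Ts`
  have sg : ∀ z, C z → ∀ u : G, (∀ w, u • w ∈ Fx Ω z ↔ w ∈ Fx Ω z) → ∀ d ∈ Fx Ω z, ∀ a ∈ A d,
      a ≠ 1 → u * a * u⁻¹ * a⁻¹ ∈ Ts A (Fx Ω z) ∨ u * a * u⁻¹ * a ∈ Ts A (Fx Ω z) := by
    intro z hz u pu d hd a ha a1
    obtain ⟨-, -, gB, gA, -⟩ := cS z hz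
    obtain ⟨s, hs, a', ha', e⟩ := (gA d hd).dec _
      ((k.nrm _ u pu).1 a ((k.fle _ d hd d hd).1 (mem_sup_left ha)))
    by_cases e1 : a' = 1
    · exfalso
      rw [e1, mul_one] at e
      have s4 := gB (s * s) ⟨mul_mem hs hs, (gA d hd).sq s hs⟩
      have a3 := (three (p3 ▸ h.card d) ha ha a1 a1).1
      apply a1
      have : u * (a ^ 3 * a) * u⁻¹ = 1 := by
        rw [← s4, ← e]; simp only [pow_succ, pow_zero, one_mul]; group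
      rw [a3, one_mul] at this
      calc a = u⁻¹ * (u * a * u⁻¹) * u := by group
        _ = 1 := by rw [this]; group
    rcases (three (p3 ▸ h.card d) ha ha' a1 e1).2 with rfl | rfl
    · exact Or.inl (by rw [e, mul_inv_cancel_right]; exact hs)
    · exact Or.inr (by rw [e, inv_mul_cancel_right]; exact hs)
  have lin : ∀ z, C z → ∀ u : G, (∀ w, u • w ∈ Fx Ω z ↔ w ∈ Fx Ω z) → ∀ x ∈ Fx Ω z, ∀ a ∈ A x,
      a ≠ 1 → u * a * u⁻¹ * a⁻¹ ∈ Ts A (Fx Ω z) →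
      ∀ d ∈ Fx Ω z, ∀ a ∈ A d, (⁅u, a⁆ : G) ∈ Ts A (Fx Ω z) := by
    intro z hz u pu x hx a0 ha0 a1 h0 d hd a ha
    obtain ⟨t', ht', a', ha', rfl⟩ := ((cS z hz).2.2.2.1 x hx).dec a
      ((k.fle _ d hd d hd).1 (mem_sup_left ha))
    have e : (⁅u, t' * a'⁆ : G) = u * t' * u⁻¹ * (u * a' * u⁻¹ * a'⁻¹) * t'⁻¹ := by
      simp only [commutatorElement_def]; group
    rw [e]
    refine mul_mem (mul_mem ((k.nrm _ u pu).2.1 t' ht') ?_) (inv_mem ht')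
    by_cases e1 : a' = 1
    · rw [e1]; simp
    rcases (three (p3 ▸ h.card x) ha0 ha' a1 e1).2 with rfl | rfl
    · exact h0
    · have m : a0⁻¹ ∈ Ms A (Fx Ω z) := inv_mem ((k.fle _ x hx x hx).1 (mem_sup_left ha0))
      have q := (k.nrm _ a0⁻¹ fun w => ⟨fun e => by
        simpa using k.inv _ (cS z hz).1 _ (inv_mem m) _ e, k.inv _ (cS z hz).1 _ m w⟩).2.1 _
        (inv_mem h0)
      have e2 : u * a0⁻¹ * u⁻¹ * a0⁻¹⁻¹ = a0⁻¹ * (u * a0 * u⁻¹ * a0⁻¹)⁻¹ * a0⁻¹⁻¹ := by group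
      rw [e2]; exact q
  have exA : ∀ x, ∃ a ∈ A x, a ≠ 1 := fun x => by
    by_contra c
    have : A x = ⊥ := eq_bot_iff.2 fun a ha => by_contra fun e => c ⟨a, ha, e⟩
    have e := h.card x
    rw [this, card_bot] at e
    omega
  have lB : ∀ z z1, C z → C z1 → (∃ b ∈ Fx Ω z1, z • b ≠ b) → ∀ u ∈ Ts A (Fx Ω z1),
      ∀ v ∈ Ts A (Fx Ω z1), (∀ w, u • w ∈ Fx Ω z ↔ w ∈ Fx Ω z) →
      (∀ w, v • w ∈ Fx Ω z ↔ w ∈ Fx Ω z) → u ∉ Cs A (Fx Ω z1) → v ∉ Cs A (Fx Ω z1) →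
      u * v ∈ Cs A (Fx Ω z1) := by
    intro z z1 hz h1 hb u hu v hv pu pv nu nv
    obtain ⟨d, hd, -⟩ := mv z z1 hz h1 hb
    obtain ⟨a, ha, a1⟩ := exA d
    have su := (sg z hz u pu d hd a ha a1).resolve_left fun e =>
      nu (lA z z1 hz h1 hb u hu pu (lin z hz u pu d hd a ha a1 e))
    have sv := (sg z hz v pv d hd a ha a1).resolve_left fun e =>
      nv (lA z z1 hz h1 hb v hv pv (lin z hz v pv d hd a ha a1 e))
    have puv : ∀ w, (u * v) • w ∈ Fx Ω z ↔ w ∈ Fx Ω z := fun w => by rw [mul_smul, pu, pv]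
    refine lA z z1 hz h1 hb _ (mul_mem hu hv) puv (lin z hz _ puv d hd a ha a1 ?_)
    have m : a ∈ Ms A (Fx Ω z) := (k.fle _ d hd d hd).1 (mem_sup_left ha)
    have q := (k.nrm _ a fun w => ⟨fun e => by
      simpa using k.inv _ (cS z hz).1 _ (inv_mem m) _ e, k.inv _ (cS z hz).1 _ m w⟩).2.1 _
      (inv_mem su)
    have e2 : u * v * a * (u * v)⁻¹ * a⁻¹ =
        u * (v * a * v⁻¹ * a) * u⁻¹ * (a * (u * a * u⁻¹ * a)⁻¹ * a⁻¹) := by group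
    rw [e2]
    exact mul_mem ((k.nrm _ u pu).2.1 _ sv) q
  have l0 : ∀ z, C z → ∀ b, z • b ≠ b → ∃ r ∈ Rl A b (z • b), r ∉ Zl A b (z • b) ∧ z * r = r * z ∧
      r • b = z • b ∧ r⁻¹ * z ∈ centralizer (A b : Set G) := by
    rintro z ⟨x, y, hxy, hz, n1⟩ b hb
    obtain ⟨r, hr, nr, k1⟩ := tra G Ω p A h p2 ep k ls z ((ls x y hxy).2.2.1.zsq z hz) b hb
      (nof G Ω p A h ep k ls x y hxy z hz b hb)
    have e2 := mem_centralizer_iff.1 k1 r (RF _ _ hb.symm hr)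
    refine ⟨r, hr, nr, ?_, ?_, mem_centralizer_iff.2 fun a ha =>
      mem_centralizer_iff.1 k1 a (mem_sup_left ha)⟩
    · calc z * r = r * (r⁻¹ * z * r) := by group
        _ = r * z := by rw [← e2]; group
    · have := (ep.kfix _ _ hb.symm _).1 k1 b (k.ln _ _).1
      calc r • b = r • (r⁻¹ * z) • b := by rw [this]
        _ = z • b := by rw [← mul_smul, mul_inv_cancel_left]
  have lT : ∀ z z1, C z → z1 * z = z * z1 → ∀ b ∈ Fx Ω z1, z • b ≠ b → ∃ r ∈ Ts A (Fx Ω z1),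
      r ∉ Cs A (Fx Ω z1) ∧ (∀ w, r • w ∈ Fx Ω z ↔ w ∈ Fx Ω z) ∧ r • b = z • b ∧
      r⁻¹ * z ∈ centralizer (A b : Set G) := by
    intro z z1 hz c b hb mb
    obtain ⟨r, hr, -, e1, e2, e3⟩ := l0 z hz b mb
    exact ⟨r, (k.fle _ b hb _ ((pres c b).2 hb)).2 hr,
      fun e => mb (e2.symm.trans (k.csfix _ r e b hb)), pres e1, e2, e3⟩
  have lU : ∀ z z1, C z → C z1 → z1 * z = z * z1 → (∃ b ∈ Fx Ω z1, z • b ≠ b) →
      ∀ r ∈ Ts A (Fx Ω z1), r ∉ Cs A (Fx Ω z1) → (∀ w, r • w ∈ Fx Ω z ↔ w ∈ Fx Ω z) →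
      ∀ w ∈ Fx Ω z1, z • w = r • w := by
    intro z z1 hz h1 c hb r hr nr pr
    have s1 : ∀ w ∈ Fx Ω z1, z • w ≠ w → z • w = r • w := by
      intro w hw mw
      obtain ⟨r', hr', nr', pr', e, -⟩ := lT z z1 hz c w hw mw
      have := k.csfix _ _ (lB z z1 hz h1 hb _ (inv_mem hr) r' hr' (fun w => by
        rw [← pr, smul_inv_smul]) pr' (fun e => nr (inv_mem_iff.1 e)) nr') w hw
      rw [mul_smul, inv_smul_eq_iff] at this
      rw [← e, this]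
    intro w hw
    by_contra ne
    have fw : z • w = w := by_contra fun e => ne (s1 w hw e)
    obtain ⟨b, hb, mb⟩ := hb
    obtain ⟨a, ha, a1⟩ := exA w
    obtain ⟨sub, -, -, gA, -⟩ := cS z1 h1
    have m : a ∈ Ms A (Fx Ω z1) := (k.fle _ w hw w hw).1 (mem_sup_left ha)
    have za := mem_centralizer_iff.1 ((k.cs _ z).1 (cS z hz).2.2.2.2.2 w fw) a ha
    have e0 : z • a • b = a • z • b := by rw [← mul_smul, ← za, mul_smul]
    have e1 := s1 _ (k.inv _ sub a m b hb) (by rw [e0]; exact fun e => mb (smul_left_cancel a e))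
    rw [e0, s1 b hb mb] at e1
    have q := (k.nrm _ a⁻¹ fun w => ⟨fun e => by
      simpa using k.inv _ sub _ m _ e, k.inv _ sub _ (inv_mem m) w⟩).2.1 _ hr
    have c1 := k.csfix _ _ ((gA b hb).stab _ (mul_mem (inv_mem hr) q) (by
      rw [inv_inv, mul_smul, mul_smul, mul_smul, ← e1, inv_smul_smul, inv_smul_smul])) w hw
    rw [inv_inv, mul_smul, mul_smul, mul_smul, h.fix w a ha, inv_smul_eq_iff] at c1
    rcases h.semi w _ _ (inv_mem ha) c1 with e | e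
    · exact a1 (inv_eq_one.1 e)
    · exact nr ((gA w hw).stab r hr e)
  intro x y hxy z hz n1 w hw
  by_contra nw
  have cz : C z := ⟨x, y, hxy, hz, n1⟩
  obtain ⟨sub, gd, gB, gA, -⟩ := cS z cz
  have lsub := (k.fx x y hxy z hz).2.1
  have hx := lsub (k.ln x y).1
  have hy := lsub (k.ln x y).2
  obtain ⟨b, mb⟩ : ∃ b : Ω, z • b ≠ b := by
    by_contra c
    exact n1 (h.faith z fun w => by_contra fun e => c ⟨w, e⟩)
  obtain ⟨r1, hr1, nr1, c1, -⟩ := l0 z cz b mb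
  have hz1 := (ls _ _ mb.symm).2.1.sq r1 hr1
  have c2 : r1 * r1 * z = z * (r1 * r1) := by rw [mul_assoc, ← c1, ← mul_assoc, ← c1, mul_assoc]
  have cz1 : C (r1 * r1) := ⟨_, _, mb.symm, hz1, t _ _ mb.symm r1 hr1 nr1⟩
  have hb : b ∈ Fx Ω (r1 * r1) := (k.fx _ _ mb.symm _ hz1).2.1 (k.ln _ _).1
  generalize r1 * r1 = z1 at c2 cz1 hb
  obtain ⟨ρ, hρ, nρ, pρ, eρ, -⟩ := lT z z1 cz c2 b hb mb
  obtain ⟨d, hd, md⟩ := mv z z1 cz cz1 ⟨b, hb, mb⟩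
  obtain ⟨r0, hr0, nr0, pr0, -, k0⟩ := lT z1 z cz1 c2.symm d hd md
  have k1 : r0⁻¹ * z1 ∈ Cs A (Fx Ω z) := k.csof _ d hd _ k0 fun w hw => by
    rw [mul_smul, lU z1 z cz1 cz c2.symm ⟨d, hd, md⟩ r0 hr0 nr0 pr0 w hw, inv_smul_smul]
  have sqa : ∀ g ∈ Ts A (Fx Ω z), g ∉ Cs A (Fx Ω z) → ∀ w ∈ Fx Ω z1, (g * g) • w = ρ • w := by
    intro g hg ng
    obtain ⟨cg, eg⟩ := cQ z cz x hx g hg ng
    have e1 := mem_centralizer_iff.1 ((gA x hx).sq g hg) r0 (TM _ hr0)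
    have e2 := mem_centralizer_iff.1 k1 _ (TM _ (mul_mem hg hg))
    refine lU _ z1 cg cz1 ?_ ⟨b, hb, fun e => mb (show b ∈ Fx Ω z from eg ▸ e)⟩ ρ hρ nρ (eg ▸ pρ)
    calc z1 * (g * g) = r0 * (r0⁻¹ * z1 * (g * g)) := by group
      _ = r0 * (g * g) * (r0⁻¹ * z1) := by rw [← e2]; group
      _ = _ := by rw [e1]; group
  have ρ1 : ∀ w ∈ Fx Ω z1, ρ • w ∈ Fx Ω z1 := k.inv _ (cS z1 cz1).1 ρ (TM _ hρ)
  have ρ2 : ∀ w ∈ Fx Ω z1, ρ • ρ • w = w := fun w hw => by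
    rw [← mul_smul]; exact k.csfix _ _ (((cS z1 cz1).2.2.2.1 b hb).sq ρ hρ) w hw
  have cma : ∀ g ∈ Ts A (Fx Ω z), ∀ g' ∈ Ts A (Fx Ω z), g • x ≠ x → g' • x ≠ x → (g * g') • x ≠ x →
      ∀ w ∈ Fx Ω z1, (⁅g⁻¹, g'⁆ : G) • w = ρ • w := by
    intro g hg g' hg' n n' n'' w hw
    have e1 := sqa _ (mul_mem hg hg') (fun e => n'' (k.csfix _ _ e x hx)) w hw
    have e2 := mem_centralizer_iff.1 ((gA x hx).com _ (inv_mem hg) _ hg') _ (TM _ (mul_mem hg hg))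
    have e3 : g * g' * (g * g') = ⁅g⁻¹, g'⁆ * (g * g) * (g' * g') := by
      rw [← e2, commutatorElement_def]; group
    rw [e3, mul_smul, mul_smul, sqa _ hg' (fun e => n' (k.csfix _ _ e x hx)) w hw,
      sqa _ hg (fun e => n (k.csfix _ _ e x hx)) _ (ρ1 w hw), ρ2 w hw] at e1
    exact e1
  obtain ⟨r, hr, er⟩ := (ls x y hxy).1.tr y (k.ln x y).2
  obtain ⟨a, ha, a1⟩ := exA x
  obtain ⟨t', ht', et⟩ := (gA x hx).tr w hw
  have FL : ∀ g ∈ Fl A x y, g • x ∈ Ln A x y := fun g hg =>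
    (ep.nrm x y hxy g).1 (le_normalizer hg) x (k.ln x y).1
  have hs : a * r * a⁻¹ ∈ Rl A x y := by
    have := (k.cj a x y r).2.1 hr
    have ay : a • y ∈ Ln A x y := (ep.nrm x y hxy a).1 (le_normalizer (mem_sup_left ha)) y (k.ln x y).2
    rwa [h.fix x a ha, (k.sp x y hxy x (k.ln x y).1 _ ay fun e => hxy (smul_left_cancel a
      ((h.fix x a ha).trans e))).1] at this
  have es : (a * r * a⁻¹) • x = a • y := by
    rw [mul_smul, mul_smul, h.fix x _ (inv_mem ha), er]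
  have ns : (a * r * a⁻¹) • x ≠ x := by
    rw [es]; exact fun e => hxy (smul_left_cancel a ((h.fix x a ha).trans e.symm))
  have ry : r • y = x := by
    have := (ep.kfix x y hxy _).1 ((ls x y hxy).2.1.sq r hr).2 x (k.ln x y).1
    rwa [mul_smul, er] at this
  have nrs : (r * (a * r * a⁻¹)) • x ≠ x := by
    rw [mul_smul, es]
    intro e
    rcases h.semi x y a ha (smul_left_cancel r (e.trans ry.symm)) with e | e
    exacts [a1 e, hxy e.symm]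
  generalize a * r * a⁻¹ = s at hs ns nrs
  have nt : ∀ g ∈ Rl A x y, (g * t') • x ≠ x := fun g hg e => nw (by
    rw [mul_smul, et, ← eq_inv_smul_iff] at e
    rw [e]; exact FL _ (inv_mem (RF x y hxy hg)))
  have RT := (k.fle _ x hx y hy).2
  have nr : r • x ≠ x := by rw [er]; exact hxy.symm
  have f1 := cma r (RT hr) _ (mul_mem (RT hs) ht') nr (nt s hs)
    (by rw [← mul_assoc]; exact nt _ (mul_mem hr hs)) b hb
  have f2 := cma r (RT hr) s (RT hs) nr ns nrs _ (ρ1 b hb)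
  have f3 := cma r (RT hr) t' ht' nr (by simpa using nt 1 (one_mem _)) (nt r hr) b hb
  have e2 := mem_centralizer_iff.1 ((gA x hx).com _ (inv_mem (RT hr)) _ ht') _ (TM _ (RT hs))
  have e3 : (⁅r⁻¹, s * t'⁆ : G) = ⁅r⁻¹, s⁆ * ⁅r⁻¹, t'⁆ := by
    calc _ = ⁅r⁻¹, s⁆ * (s * ⁅r⁻¹, t'⁆) * s⁻¹ := by simp only [commutatorElement_def]; group
      _ = _ := by rw [e2]; group
  rw [e3, mul_smul, f3, f2, ρ2 b hb, eρ] at f1
  exact mb f1.symm

end Cfsg.Agent.H87.CyFz
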