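import Cfsg.Agent.H96.D4Defs

/-! Project D4F: the invariant quartic form over the field with three elements. -/

set_option autoImplicit false
set_option linter.unusedSectionVars false

namespace Cfsg.Agent.H87.D4Inv3

open Cfsg.Agent.H96.DF

universe u

section Deg
variable {K X Y Z : Type*} [AddCommGroup K] [AddCommGroup X] [AddCommGroup Y] [AddCommGroup Z]

/-- All `n`-fold differences of `f` vanish. -/
def Dl : ℕ → (K → X) → Prop
  | 0, f => ∀ t, f t = 0
  | n + 1, f => ∀ s, Dl n fun t => f (t + s) - f t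

theorem Dl.congr {n : ℕ} {f g : K → X} (h : Dl n f) (e : ∀ t, g t = f t) : Dl n g := by
  rwa [show g = f from funext e]

theorem dl_zero (n : ℕ) : Dl n fun _ : K => (0 : X) := by
  induction n with
  | zero => exact fun _ => rfl
  | succ n ih => exact fun s => ih.congr fun t => sub_self _

theorem Dl.add {n : ℕ} {f g : K → X} (h : Dl n f) (h' : Dl n g) : Dl n fun t => f t + g t := by
  induction n generalizing f g with
  | zero => exact fun t => by beta_reduce; rw [h t, h' t, add_zero]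
  | succ n ih => exact fun s => (ih (h s) (h' s)).congr fun t => by beta_reduce; abel

theorem Dl.shift {n : ℕ} {f : K → X} (h : Dl n f) (r : K) : Dl n fun t => f (t + r) := by
  induction n generalizing f with
  | zero => exact fun t => h _
  | succ n ih => exact fun s => (ih (h s)).congr fun t => by rw [add_right_comm]

theorem Dl.map {n : ℕ} {f : K → X} (h : Dl n f) (φ : X →+ Y) : Dl n fun t => φ (f t) := by
  induction n generalizing f with
  | zero => exact fun t => by beta_reduce; rw [h t, map_zero]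
  | succ n ih => exact fun s => (ih (h s)).congr fun t => (map_sub φ _ _).symm

theorem Dl.of_map {n : ℕ} {f : K → X} (φ : X →+ Y) (hφ : Function.Injective φ)
    (h : Dl n fun t => φ (f t)) : Dl n f := by
  induction n generalizing f with
  | zero => exact fun t => hφ (by rw [map_zero]; exact h t)
  | succ n ih => exact fun s => ih ((h s).congr fun t => map_sub φ _ _)

theorem Dl.succ {n : ℕ} {f : K → X} (h : Dl n f) : Dl (n + 1) f := fun s =>
  ((h.shift s).add (h.map (negAddMonoidHom))).congr fun _ => sub_eq_add_neg _ _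

theorem Dl.mono {n m : ℕ} {f : K → X} (h : Dl n f) (e : n ≤ m) : Dl m f := by
  induction e with
  | refl => exact h
  | step _ ih => exact ih.succ

theorem dl_const (c : X) : Dl 1 fun _ : K => c := fun _ _ => sub_self c

theorem dl_hom (φ : K →+ X) : Dl 2 φ := fun s =>
  (dl_const (φ s)).congr fun t => by rw [map_add, add_sub_cancel_left]

theorem Dl.prod {n : ℕ} {f : K → X} {g : K → Y} (h : Dl n f) (h' : Dl n g) :
    Dl n fun t => (f t, g t) :=
  ((h.map (AddMonoidHom.inl X Y)).add (h'.map (AddMonoidHom.inr X Y))).congr fun t => by simp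

theorem Dl.mul {R : Type*} [Ring R] {N n m : ℕ} {f g : K → R} (h : Dl n f) (h' : Dl m g)
    (e : n + m ≤ N + 1) : Dl N fun t => f t * g t := by
  induction N generalizing n m f g with
  | zero =>
    intro t
    beta_reduce
    rcases n with _ | n
    · rw [h t, zero_mul]
    · obtain rfl : m = 0 := by omega
      rw [h' t, mul_zero]
  | succ N ih =>
    rcases n with _ | n
    · exact (dl_zero _).congr fun t => by rw [h t, zero_mul]
    rcases m with _ | m
    · exact (dl_zero _).congr fun t => by rw [h' t, mul_zero]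
    exact fun s => ((ih (h s) (h'.shift s) (by omega)).add (ih h (h' s) (by omega))).congr
      fun t => by beta_reduce; noncomm_ring

theorem Dl.tri {n : ℕ} {f : K → X} (h : Dl (n + 2) f) (h3 : ∀ x : X, x + x + x = 0) (e : K) :
    Dl n fun t => f t + f (t + e) + f (t + e + e) :=
  (h e e).congr fun t => by
    beta_reduce
    linear_combination (norm := abel) h3 (f (t + e))

end Deg

variable {F K : Type u} [Field F] [Field K] [Algebra F K] {C : Tri F K}

theorem Dl.ml {m : V F K → V F K → V F K → V F K → F} (hm : ML4 m) {N n₁ n₂ n₃ n₄ : ℕ}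
    {f₁ f₂ f₃ f₄ : K → V F K} (h₁ : Dl n₁ f₁) (h₂ : Dl n₂ f₂) (h₃ : Dl n₃ f₃) (h₄ : Dl n₄ f₄)
    (e : n₁ + n₂ + n₃ + n₄ ≤ N + 3) : Dl N fun t => m (f₁ t) (f₂ t) (f₃ t) (f₄ t) := by
  induction N generalizing n₁ n₂ n₃ n₄ f₁ f₂ f₃ f₄ with
  | zero =>
    intro t
    beta_reduce
    rcases n₁ with _ | n₁
    · rw [h₁ t]; exact (hm.l1 _ _ _).map_zero
    rcases n₂ with _ | n₂
    · rw [h₂ t]; exact (hm.l2 _ _ _).map_zero
    rcases n₃ with _ | n₃
    · rw [h₃ t]; exact (hm.l3 _ _ _).map_zero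
    obtain rfl : n₄ = 0 := by omega
    rw [h₄ t]; exact (hm.l4 _ _ _).map_zero
  | succ N ih =>
    rcases n₁ with _ | n₁
    · exact (dl_zero _).congr fun t => by rw [h₁ t]; exact (hm.l1 _ _ _).map_zero
    rcases n₂ with _ | n₂
    · exact (dl_zero _).congr fun t => by rw [h₂ t]; exact (hm.l2 _ _ _).map_zero
    rcases n₃ with _ | n₃
    · exact (dl_zero _).congr fun t => by rw [h₃ t]; exact (hm.l3 _ _ _).map_zero
    rcases n₄ with _ | n₄
    · exact (dl_zero _).congr fun t => by rw [h₄ t]; exact (hm.l4 _ _ _).map_zero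
    refine fun s => ((((ih (h₁ s) (h₂.shift s) (h₃.shift s) (h₄.shift s) (by omega)).add
      (ih h₁ (h₂ s) (h₃.shift s) (h₄.shift s) (by omega))).add
      (ih h₁ h₂ (h₃ s) (h₄.shift s) (by omega))).add (ih h₁ h₂ h₃ (h₄ s) (by omega))).congr
      fun t => ?_
    have e1 := (hm.l1 (f₂ (t + s)) (f₃ (t + s)) (f₄ (t + s))).map_sub (f₁ (t + s)) (f₁ t)
    have e2 := (hm.l2 (f₁ t) (f₃ (t + s)) (f₄ (t + s))).map_sub (f₂ (t + s)) (f₂ t)
    have e3 := (hm.l3 (f₁ t) (f₂ t) (f₄ (t + s))).map_sub (f₃ (t + s)) (f₃ t)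
    have e4 := (hm.l4 (f₁ t) (f₂ t) (f₃ t)).map_sub (f₄ (t + s)) (f₄ t)
    linear_combination -e1 - e2 - e3 - e4

theorem three (hq : Nat.card F = 3) : (3 : F) = 0 := by
  haveI : Finite F := Nat.finite_of_card_ne_zero (by omega)
  haveI := Fintype.ofFinite F
  have := FiniteField.cast_card_eq_zero F
  rwa [← Nat.card_eq_fintype_card, hq, Nat.cast_ofNat] at this

theorem sumF [Fintype F] (hq : Nat.card F = 3) (g : F → F) : ∑ c, g c = g 0 + g 1 + g (1 + 1) := by
  classical
  have h3 := three hq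
  have h1 : (0 : F) ≠ 1 + 1 := fun e => one_ne_zero (by linear_combination h3 + e : (1 : F) = 0)
  have h2 : (1 : F) ≠ 1 + 1 := by simp
  have : (Finset.univ : Finset F) = {0, 1, 1 + 1} := (Finset.eq_univ_of_card _ (by
    rw [Finset.card_eq_three.2 ⟨0, 1, 1 + 1, zero_ne_one, h1, h2, rfl⟩, ← Nat.card_eq_fintype_card,
      hq])).symm
  rw [this, Finset.sum_insert (by simp [h1]), Finset.sum_pair h2, add_assoc]

include C in
theorem Dl.sum [Fintype K] (hq : Nat.card F = 3) {f : K → F} (h : Dl 6 f) : ∑ t, f t = 0 := by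
  haveI : Finite F := Nat.finite_of_card_ne_zero (by omega)
  haveI := Fintype.ofFinite F
  let b := Module.finBasisOfFinrankEq F K C.finrank
  have h3 : ∀ x : F, x + x + x = 0 := fun x => by linear_combination x * three hq
  have key := ((h.tri h3 (b 2)).tri h3 (b 1)).tri h3 (b 0) 0
  rw [← key, ← Fintype.sum_bijective (fun x : F × F × F => x.1 • b 0 + x.2.1 • b 1 + x.2.2 • b 2)
    ⟨fun x y e => ?_, fun t => ⟨(b.repr t 0, b.repr t 1, b.repr t 2), ?_⟩⟩ _ f fun _ => rfl]
  · simp only [Fintype.sum_prod_type, sumF hq, add_smul, one_smul, zero_smul, zero_add, add_zero,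
      add_assoc]
  · have k := fun i => congrArg (fun t => b.repr t i) e
    have k0 := k 0
    have k1 := k 1
    have k2 := k 2
    simp at k0 k1 k2
    exact Prod.ext k0 (Prod.ext k1 k2)
  · have := b.sum_repr t
    rwa [Fin.sum_univ_three] at this

theorem dl_σ : Dl 2 fun t : K => C.σ t := dl_hom (C.σ : K →+ K)

theorem dl_σσ : Dl 2 fun t : K => C.σ (C.σ t) := dl_σ.map (C.σ : K →+ K)

theorem dl_id : Dl 2 fun t : K => t := dl_hom (AddMonoidHom.id K)

theorem dl_sh : Dl 3 fun t : K => C.sh t := dl_σ.mul dl_σσ le_rfl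

theorem dl_N : Dl 4 fun t : K => C.N t :=
  Dl.of_map (algebraMap F K : F →+ K) (algebraMap F K).injective
    ((dl_id.mul (dl_sh (C := C)) le_rfl).congr fun t => (C.mul_sh t).symm)

/-- Vectors in a root space of height `h`. -/
inductive Ht : ℕ → V F K → Prop
  | h0 (u : F) : Ht 0 (0, 0, 0, u)
  | h1 (y : K) : Ht 1 (0, 0, y, 0)
  | h2 (x : K) : Ht 2 (0, x, 0, 0)
  | h3 (a : F) : Ht 3 (a, 0, 0, 0)

theorem Ht.le {h : ℕ} {v : V F K} (hv : Ht h v) : h ≤ 3 := by cases hv <;> omega

theorem Ht.u {h : ℕ} {v : V F K} (hv : Ht h v) (e : 0 < h) : v.2.2.2 = 0 := by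
  cases hv <;> first | rfl | omega

theorem Ht.eq {v : V F K} (hv : Ht 0 v) : v = v.2.2.2 • e3 := by
  cases hv; simp [e3]

theorem ht_ind {f : V F K → F} (hf : IsLinearMap F f) (h : ∀ k v, Ht k v → f v = 0) (v : V F K) :
    f v = 0 := by
  obtain ⟨a, x, y, u⟩ := v
  have : ((a, x, y, u) : V F K) = (a, 0, 0, 0) + (0, x, 0, 0) + (0, 0, y, 0) + (0, 0, 0, u) := by simp
  rw [this, hf.map_add, hf.map_add, hf.map_add, h _ _ (.h0 u), h _ _ (.h1 y), h _ _ (.h2 x),
    h _ _ (.h3 a)]
  simp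

theorem Ht.vm {h : ℕ} {v : V F K} (hv : Ht h v) : Dl (h + 1) fun l => vmap C l 1 v := by
  cases hv with
  | h0 u => exact (dl_const ((0, 0, 0, u) : V F K)).congr fun t => by simp [H96.DF.vmap]
  | h1 y =>
    exact ((dl_zero _).prod ((dl_zero _).prod ((dl_id.mul (dl_const y) le_rfl).prod
      (dl_zero _)))).congr fun t => by simp [H96.DF.vmap]
  | h2 x =>
    exact ((dl_zero _).prod (((dl_sh (C := C)).mul (dl_const x) le_rfl).prod ((dl_zero _).prod
      (dl_zero _)))).congr fun t => by simp [H96.DF.vmap]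
  | h3 a =>
    exact (((dl_N (C := C)).mul (dl_const a) le_rfl).prod ((dl_zero _).prod ((dl_zero _).prod
      (dl_zero _)))).congr fun t => by simp [H96.DF.vmap]

theorem Ht.vmap_zero {h : ℕ} {v : V F K} (hv : Ht h v) (e : 0 < h) : H96.DF.vmap C 0 1 v = 0 := by
  cases hv <;> first | omega | simp [H96.DF.vmap]

/-- the component along `e0` -/
def top (v : V F K) : V F K := (v.1, 0, 0, 0)

/-- the remaining components -/
def low (v : V F K) : V F K := (0, v.2)

theorem top_low (v : V F K) : v = top v + low v := by simp [top, low, Prod.ext_iff]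

theorem top_eq (v : V F K) : top v = v.1 • e0 := by simp [top, e0]

theorem Ht.top {h : ℕ} {v : V F K} (hv : Ht h v) : Dl (4 - h) fun t => top (ρ C t v) := by
  have T : ∀ {n : ℕ} {f : K → K}, Dl n f → Dl n fun t => C.T (f t) := fun h => h.map (C.T : K →+ F)
  cases hv with
  | h0 u =>
    exact (((dl_N (C := C)).mul (dl_const u) le_rfl).prod (dl_zero _)).congr fun t => by
      simp [D4Inv3.top, ρ_apply, rmap, Prod.ext_iff]
  | h1 y =>
    exact ((T ((dl_sh (C := C)).mul (dl_const y) le_rfl)).prod (dl_zero _)).congr fun t => by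
      simp [D4Inv3.top, ρ_apply, rmap, Prod.ext_iff]
  | h2 x =>
    exact ((T (dl_id.mul (dl_const x) le_rfl)).prod (dl_zero _)).congr fun t => by
      simp [D4Inv3.top, ρ_apply, rmap, Prod.ext_iff]
  | h3 a =>
    exact (dl_const ((a, 0, 0, 0) : V F K)).congr fun t => by simp [D4Inv3.top, ρ_apply, rmap]

theorem Ht.low {h : ℕ} {v : V F K} (hv : Ht h v) : Dl (3 - h) fun t => low (ρ C t v) := by
  cases hv with
  | h0 u =>
    exact ((dl_zero _).prod (((dl_const (algebraMap F K u)).mul (dl_sh (C := C)) le_rfl).prod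
      ((((dl_const (algebraMap F K u)).mul dl_id le_rfl).succ).prod
        ((dl_const u).succ.succ)))).congr fun t => by
      simp [D4Inv3.low, ρ_apply, rmap, Algebra.smul_def]
  | h1 y =>
    exact ((dl_zero _).prod ((((dl_σ (C := C)).mul (dl_const (C.σ (C.σ y))) le_rfl).add
      ((dl_σσ (C := C)).mul (dl_const (C.σ y)) le_rfl)).prod ((dl_const (y, (0 : F))).succ))).congr
      fun t => by simp [D4Inv3.low, ρ_apply, rmap, Tri.cr]
  | h2 x =>
    exact (dl_const ((0, x, 0, 0) : V F K)).congr fun t => by simp [D4Inv3.low, ρ_apply, rmap]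
  | h3 a => exact fun t => by simp [D4Inv3.low, ρ_apply, rmap]

theorem Ht.rho {h : ℕ} {v : V F K} (hv : Ht h v) : Dl (4 - h) fun t => ρ C t v :=
  (hv.top.add (hv.low.mono (by omega))).congr fun t => top_low _

/-- Traces vanish in height at least six. -/
theorem trace_high [Fintype K] (hq : Nat.card F = 3) {m : V F K → V F K → V F K → V F K → F}
    (hm : ML4 m) (h0 : m e0 e0 e0 e0 = 0) {h₁ h₂ h₃ h₄ : ℕ} {a b c d : V F K} (ha : Ht h₁ a)
    (hb : Ht h₂ b) (hc : Ht h₃ c) (hd : Ht h₄ d) (e : 6 ≤ h₁ + h₂ + h₃ + h₄) :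
    ∑ t, m (ρ C t a) (ρ C t b) (ρ C t c) (ρ C t d) = 0 := by
  have l1 := ha.le
  have l2 := hb.le
  have l3 := hc.le
  have l4 := hd.le
  refine Dl.sum (C := C) hq (((((Dl.ml hm (ha.low (C := C)) (hb.rho (C := C)) (hc.rho (C := C))
    (hd.rho (C := C)) (by omega)).add
    (Dl.ml hm (ha.top (C := C)) (hb.low (C := C)) (hc.rho (C := C)) (hd.rho (C := C)) (by omega))).add
    (Dl.ml hm (ha.top (C := C)) (hb.top (C := C)) (hc.low (C := C)) (hd.rho (C := C)) (by omega))).add
    (Dl.ml hm (ha.top (C := C)) (hb.top (C := C)) (hc.top (C := C)) (hd.low (C := C))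
      (by omega))).congr fun t => ?_)
  generalize ρ C t a = a, ρ C t b = b, ρ C t c = c, ρ C t d = d
  have e1 := (hm.l1 b c d).map_add (top a) (low a)
  have e2 := (hm.l2 (top a) c d).map_add (top b) (low b)
  have e3 := (hm.l3 (top a) (top b) d).map_add (top c) (low c)
  have e4 := (hm.l4 (top a) (top b) (top c)).map_add (top d) (low d)
  have e5 : m (top a) (top b) (top c) (top d) = 0 := by
    simp only [top_eq]
    rw [(hm.l1 _ _ _).map_smul, (hm.l2 _ _ _).map_smul, (hm.l3 _ _ _).map_smul,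
      (hm.l4 _ _ _).map_smul, h0]
    simp
  rw [← top_low] at e1 e2 e3 e4
  linear_combination e1 + e2 + e3 + e4 + e5

/-- Forms invariant under the torus vanish in the heights one to five. -/
theorem torus_low [Fintype K] (hq : Nat.card F = 3) {m : V F K → V F K → V F K → V F K → F}
    (hm : ML4 m) (h0 : ∀ l : K, l ≠ 0 → ∀ a b c d,
      m (vmap C l 1 a) (vmap C l 1 b) (vmap C l 1 c) (vmap C l 1 d) = m a b c d)
    {h₁ h₂ h₃ h₄ : ℕ} {a b c d : V F K} (ha : Ht h₁ a) (hb : Ht h₂ b) (hc : Ht h₃ c) (hd : Ht h₄ d)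
    (e : h₁ + h₂ + h₃ + h₄ ≤ 5) (e' : 0 < h₁ + h₂ + h₃ + h₄) : m a b c d = 0 := by
  classical
  have key := Dl.sum (C := C) hq (Dl.ml hm (ha.vm (C := C)) (hb.vm (C := C)) (hc.vm (C := C))
    (hd.vm (C := C)) (by omega))
  have z : m (vmap C 0 1 a) (vmap C 0 1 b) (vmap C 0 1 c) (vmap C 0 1 d) = 0 := by
    by_cases k1 : 0 < h₁
    · rw [ha.vmap_zero k1]; exact (hm.l1 _ _ _).map_zero
    by_cases k2 : 0 < h₂
    · rw [hb.vmap_zero k2]; exact (hm.l2 _ _ _).map_zero
    by_cases k3 : 0 < h₃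
    · rw [hc.vmap_zero k3]; exact (hm.l3 _ _ _).map_zero
    rw [hd.vmap_zero (by omega)]; exact (hm.l4 _ _ _).map_zero
  rw [← Finset.add_sum_erase _ _ (Finset.mem_univ (0 : K)), z, zero_add,
    Finset.sum_congr rfl fun l hl => h0 l (Finset.ne_of_mem_erase hl) a b c d, Finset.sum_const,
    Finset.card_erase_of_mem (Finset.mem_univ _), Finset.card_univ, ← Nat.card_eq_fintype_card,
    C.card, hq, nsmul_eq_mul] at key
  norm_num at key
  refine key.resolve_left fun e => one_ne_zero (?_ : (1 : F) = 0)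
  linear_combination 9 * three hq - e

theorem ml_sum {ι : Type*} (I : Finset ι) {m : ι → V F K → V F K → V F K → V F K → F}
    (h : ∀ i, ML4 (m i)) : ML4 fun a b c d => ∑ i ∈ I, m i a b c d := by
  have k : ∀ f : ι → V F K → F, (∀ i, IsLinearMap F (f i)) → IsLinearMap F fun v => ∑ i ∈ I, f i v :=
    fun f hf => ⟨fun x y => by simp only [(hf _).map_add, Finset.sum_add_distrib],
      fun c x => by simp only [(hf _).map_smul, Finset.smul_sum]⟩
  exact ⟨fun b c d => k _ fun i => (h i).l1 b c d, fun b c d => k _ fun i => (h i).l2 b c d,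
    fun b c d => k _ fun i => (h i).l3 b c d, fun b c d => k _ fun i => (h i).l4 b c d⟩

theorem ml_comp {m : V F K → V F K → V F K → V F K → F} (h : ML4 m) (g : V F K ≃ₗ[F] V F K) :
    ML4 fun a b c d => m (g a) (g b) (g c) (g d) := by
  have k : ∀ f : V F K → F, IsLinearMap F f → IsLinearMap F fun v => f (g v) :=
    fun f hf => ⟨fun x y => by rw [map_add, hf.map_add], fun c x => by rw [map_smul, hf.map_smul]⟩
  exact ⟨fun b c d => k _ (h.l1 _ _ _), fun b c d => k _ (h.l2 _ _ _),
    fun b c d => k _ (h.l3 _ _ _), fun b c d => k _ (h.l4 _ _ _)⟩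

theorem inv3 [Finite K] {p : ℕ} (tk : TkStmt C p) (hk : Kap C) : Inv3Stmt C p := by
  intro hq D hD ⟨l, hl, hlD⟩
  haveI := Fintype.ofFinite K
  haveI : Finite F := Nat.finite_of_card_ne_zero (by omega)
  haveI := Fintype.ofFinite F
  have h3 := three hq
  obtain ⟨m, ⟨I, hI⟩, hm⟩ := tk D hD
  simp only [finsum_eq_sum_of_fintype] at hI
  have ml : ML4 m := by
    have : m = fun a b c d => ∑ g ∈ I, ∑ t, kap C (g (ρ C t a)) (g (ρ C t b)) (g (ρ C t c))
      (g (ρ C t d)) := by funext a b c d; exact hI a b c d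
    rw [this]
    exact ml_sum I fun g => ml_sum _ fun t => ml_comp (ml_comp hk.ml g) (ρ C t)
  have tor : ∀ k : Kˣ, torV C (k, 1) ∈ D := fun k => by
    have h1 : orderOf (-1 : Kˣ) = 2 := by
      refine orderOf_eq_prime (by simp) fun e => ?_
      have e' : (-1 : K) = 1 := by simpa using congrArg Units.val e
      have h4 : (3 : K) = 0 := by rw [← map_ofNat (algebraMap F K) 3, h3, map_zero]
      exact one_ne_zero (by linear_combination h4 + e' : (1 : K) = 0)
    have h2 : orderOf (-1 * l) = 26 := by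
      rw [(Commute.all _ _).orderOf_mul_eq_mul_orderOf_of_coprime (by rw [h1, hl]; norm_num), h1, hl]
    have h4 : Subgroup.zpowers (-1 * l) = ⊤ := Subgroup.eq_top_of_card_eq _ (by
      rw [Nat.card_zpowers, h2, Nat.card_units, C.card, hq]; rfl)
    obtain ⟨n, rfl⟩ : k ∈ Subgroup.zpowers (-1 * l) := h4 ▸ Subgroup.mem_top k
    have := zpow_mem (mul_mem (hD.three hq) hlD) n
    rw [← map_mul, ← map_zpow] at this
    simpa using this
  have inv : ∀ k : K, k ≠ 0 → ∀ a b c d,
      m (vmap C k 1 a) (vmap C k 1 b) (vmap C k 1 c) (vmap C k 1 d) = m a b c d := fun k k0 a b c d => by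
    have h1 := hm _ (tor (Units.mk0 k k0)) a b c d
    have h2 := FiniteField.pow_card_sub_one_eq_one (C.N k) (by simpa using k0)
    rw [← Nat.card_eq_fintype_card, hq] at h2
    rw [hk.tor] at h1
    simp only [torV_apply, Units.val_mk0, Units.val_one, one_pow, mul_one] at h1
    rw [show C.N k ^ 2 = 1 from h2, one_mul] at h1
    exact add_left_cancel h1
  have lin : ∀ (f : V F K → F) (r : F), IsLinearMap F f → IsLinearMap F fun v => f v - r * v.2.2.2 :=
    fun f r hf => ⟨fun x y => by rw [hf.map_add]; simp; ring, fun c x => by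
      rw [hf.map_smul]; simp; ring⟩
  have pure : ∀ {h₁ h₂ h₃ h₄ : ℕ} {a b c d : V F K}, Ht h₁ a → Ht h₂ b → Ht h₃ c → Ht h₄ d →
      m a b c d = m e3 e3 e3 e3 * (a.2.2.2 * b.2.2.2 * c.2.2.2 * d.2.2.2) :=
    fun {h₁ h₂ h₃ h₄ a b c d} ha hb hc hd => by
      rcases Nat.eq_zero_or_pos (h₁ + h₂ + h₃ + h₄) with e | e
      · obtain ⟨rfl, rfl, rfl, rfl⟩ : h₁ = 0 ∧ h₂ = 0 ∧ h₃ = 0 ∧ h₄ = 0 := by omega
        conv_lhs => rw [ha.eq, hb.eq, hc.eq, hd.eq, (ml.l1 _ _ _).map_smul, (ml.l2 _ _ _).map_smul,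
          (ml.l3 _ _ _).map_smul, (ml.l4 _ _ _).map_smul]
        simp only [smul_eq_mul]
        ring
      have z : a.2.2.2 * b.2.2.2 * c.2.2.2 * d.2.2.2 = 0 := by
        by_cases k1 : 0 < h₁
        · simp [ha.u k1]
        by_cases k2 : 0 < h₂
        · simp [hb.u k2]
        by_cases k3 : 0 < h₃
        · simp [hc.u k3]
        simp [hd.u (by omega)]
      rw [z, mul_zero]
      by_cases e' : h₁ + h₂ + h₃ + h₄ ≤ 5
      · exact torus_low hq ml inv ha hb hc hd e' e
      · rw [hI]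
        exact Finset.sum_eq_zero fun g _ => trace_high hq (ml_comp hk.ml g) (hk.diag h3 _)
          ha hb hc hd (by omega)
  have all : ∀ a b c d, m a b c d = m e3 e3 e3 e3 * (a.2.2.2 * b.2.2.2 * c.2.2.2 * d.2.2.2) :=
    fun a b c d => by
      have := ht_ind (lin _ (m e3 e3 e3 e3 * (b.2.2.2 * c.2.2.2 * d.2.2.2)) (ml.l1 b c d))
        (fun _ a ha => ?_) a
      · linear_combination this
      have := ht_ind (lin _ (m e3 e3 e3 e3 * (a.2.2.2 * c.2.2.2 * d.2.2.2)) (ml.l2 a c d))
        (fun _ b hb => ?_) b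
      · linear_combination this
      have := ht_ind (lin _ (m e3 e3 e3 e3 * (a.2.2.2 * b.2.2.2 * d.2.2.2)) (ml.l3 a b d))
        (fun _ c hc => ?_) c
      · linear_combination this
      have := ht_ind (lin _ (m e3 e3 e3 e3 * (a.2.2.2 * b.2.2.2 * c.2.2.2)) (ml.l4 a b c))
        (fun _ d hd => ?_) d
      · linear_combination this
      linear_combination pure ha hb hc hd
  exact ⟨m e3 e3 e3 e3, fun g hg a b c d => by simp only [kc, ← all]; exact hm g hg a b c d⟩

end Cfsg.Agent.H87.D4Inv3
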