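import Mathlib
import Cfsg.Agent.H44.K5Defs

set_option autoImplicit false

namespace Cfsg.Agent.H87.K5Uni

open Cfsg.Agent.H44.K5 Matrix

def blk {n : ℕ} (V : Matrix (Fin n) (Fin n) ℤ) : Matrix (Fin (n + 1)) (Fin (n + 1)) ℤ :=
  Matrix.of (Fin.cons (Fin.cons 1 (fun _ => 0)) (fun i => Fin.cons 0 (V i)))

theorem blk_mul {n : ℕ} (V W : Matrix (Fin n) (Fin n) ℤ) : blk V * blk W = blk (V * W) := by
  ext i j
  refine Fin.cases ?_ (fun i => ?_) i <;> refine Fin.cases ?_ (fun j => ?_) j <;>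
    simp [blk, Matrix.mul_apply, Fin.sum_univ_succ]

theorem blk_tr {n : ℕ} (V : Matrix (Fin n) (Fin n) ℤ) : (blk V)ᵀ = blk Vᵀ := by
  ext i j
  refine Fin.cases ?_ (fun i => ?_) i <;> refine Fin.cases ?_ (fun j => ?_) j <;> simp [blk]

theorem blk_one {n : ℕ} : blk (1 : Matrix (Fin n) (Fin n) ℤ) = 1 := by
  ext i j
  refine Fin.cases ?_ (fun i => ?_) i <;> refine Fin.cases ?_ (fun j => ?_) j <;>
    simp [blk, Matrix.one_apply, Fin.succ_ne_zero, (Fin.succ_ne_zero _).symm]

theorem blk_det {n : ℕ} (V : Matrix (Fin n) (Fin n) ℤ) : (blk V).det = V.det := by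
  rw [Matrix.det_succ_row_zero, Fin.sum_univ_succ]
  have : (blk V).submatrix Fin.succ (Fin.succAbove 0) = V := by
    ext i j; simp [blk]
  rw [this]
  simp [blk]

theorem conj_pos {n : ℕ} (A U : Matrix (Fin n) (Fin n) ℤ) (hU : IsUnit U.det)
    (hp : ∀ x : Fin n → ℤ, x ≠ 0 → 0 < x ⬝ᵥ A *ᵥ x) (x : Fin n → ℤ) (hx : x ≠ 0) :
    0 < x ⬝ᵥ (Uᵀ * A * U) *ᵥ x := by
  have h1 : U *ᵥ x ≠ 0 := fun h => hx (Matrix.eq_zero_of_mulVec_eq_zero hU.ne_zero h)
  have h2 := hp _ h1
  rwa [← Matrix.mulVec_mulVec, ← Matrix.mulVec_mulVec, Matrix.dotProduct_mulVec x, Matrix.vecMul_transpose]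

theorem conj_det {n : ℕ} (A U : Matrix (Fin n) (Fin n) ℤ) (hU : IsUnit U.det) :
    (Uᵀ * A * U).det = A.det := by
  rw [det_mul, det_mul, det_transpose]
  rcases Int.isUnit_iff.mp hU with h | h <;> rw [h] <;> ring

theorem uni (herm : HermStmt) : UniStmt := by
  intro n
  induction n with
  | zero => intro _ A _ _ _; exact ⟨1, Subsingleton.elim _ _⟩
  | succ n ih =>
    intro hn A hs hp hd
    obtain ⟨U, hU, hb⟩ := herm n A hs hp
    set B := Uᵀ * A * U with hB
    have hBs : Bᵀ = B := by rw [hB, transpose_mul, transpose_mul, transpose_transpose, hs, Matrix.mul_assoc]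
    have hBs' : ∀ i j, B i j = B j i := fun i j => by
      conv_lhs => rw [← hBs]
      rfl
    have hBp := conj_pos A U hU hp
    have hBd : B.det = 1 := by rw [hB, conj_det A U hU, hd]
    have h0 : 0 < B 0 0 := by
      have := hBp (Pi.single 0 1) (by simp)
      simpa using this
    have h1 : B 0 0 = 1 := by
      by_contra hne
      have h2 : 2 ≤ B 0 0 := by omega
      have h3 : (2 : ℤ) ^ (n + 1) ≤ B 0 0 ^ (n + 1) := pow_le_pow_left₀ (by norm_num) h2 _
      have h4 : (2 : ℤ) ^ (n + 1) * 3 ^ (n * (n + 1) / 2) ≤ 4 ^ (n * (n + 1) / 2) * 1 := by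
        rw [← hd]
        exact le_trans (mul_le_mul_of_nonneg_right h3 (by positivity)) hb
      have hn' : n ≤ 4 := by omega
      clear hb h3 ih
      interval_cases n <;> norm_num at h4
    let T : Matrix (Fin (n + 1)) (Fin (n + 1)) ℤ :=
      Matrix.of (Fin.cons (Fin.cons 1 (fun j => -B 0 j.succ))
        (fun i => Fin.cons 0 ((1 : Matrix (Fin n) (Fin n) ℤ) i)))
    let S : Matrix (Fin n) (Fin n) ℤ := fun i j => B i.succ j.succ - B 0 i.succ * B 0 j.succ
    have hTd : T.det = 1 := by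
      rw [Matrix.det_succ_column_zero, Fin.sum_univ_succ]
      have : T.submatrix (Fin.succAbove 0) Fin.succ = 1 := by
        ext i j; simp [T]
      rw [this]
      simp [T]
    have hT : Tᵀ * B * T = blk S := by
      ext i j
      refine Fin.cases ?_ (fun i => ?_) i <;> refine Fin.cases ?_ (fun j => ?_) j <;>
        simp [T, S, blk, Matrix.mul_apply, Fin.sum_univ_succ, Matrix.one_apply, h1, hBs' _ 0] <;>
        try ring
    have hTu : IsUnit T.det := by rw [hTd]; exact isUnit_one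
    have hSd : S.det = 1 := by rw [← blk_det, ← hT, conj_det B T hTu, hBd]
    have hSs : Sᵀ = S := by
      ext i j
      show B j.succ i.succ - B 0 j.succ * B 0 i.succ = B i.succ j.succ - B 0 i.succ * B 0 j.succ
      rw [hBs' j.succ i.succ]; ring
    have hSp : ∀ x : Fin n → ℤ, x ≠ 0 → 0 < x ⬝ᵥ S *ᵥ x := fun x hx => by
      have := conj_pos B T hTu hBp (Fin.cons 0 x) (fun h => hx (funext fun i => by
        simpa using congrFun h i.succ))
      rw [hT] at this
      simpa [blk, dotProduct, Matrix.mulVec, Fin.sum_univ_succ] using this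
    obtain ⟨V, hV⟩ := ih (by omega) S hSs hSp hSd
    refine ⟨U * T * blk V, ?_⟩
    have e : (U * T * blk V)ᵀ * A * (U * T * blk V) = (blk V)ᵀ * (Tᵀ * B * T) * blk V := by
      rw [hB]; simp only [transpose_mul, Matrix.mul_assoc]
    rw [e, hT, blk_tr, blk_mul, blk_mul, hV, blk_one]

end Cfsg.Agent.H87.K5Uni
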