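import Cfsg.Agent.H87.PSDefs

/-!
PS: the numeric pieces U1, U2A, U2B.
-/

set_option autoImplicit false

namespace Cfsg.Agent.H87.PS

/-- The primes up to 2000. -/
def PR : List ℕ :=
  [2, 3, 5, 7, 11, 13, 17, 19, 23, 29, 31, 37, 41, 43, 47, 53, 59, 61, 67, 71, 73, 79, 83, 89,
  97, 101, 103, 107, 109, 113, 127, 131, 137, 139, 149, 151, 157, 163, 167, 173, 179, 181, 191,
  193, 197, 199, 211, 223, 227, 229, 233, 239, 241, 251, 257, 263, 269, 271, 277, 281, 283, 293,
  307, 311, 313, 317, 331, 337, 347, 349, 353, 359, 367, 373, 379, 383, 389, 397, 401, 409, 419,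
  421, 431, 433, 439, 443, 449, 457, 461, 463, 467, 479, 487, 491, 499, 503, 509, 521, 523, 541,
  547, 557, 563, 569, 571, 577, 587, 593, 599, 601, 607, 613, 617, 619, 631, 641, 643, 647, 653,
  659, 661, 673, 677, 683, 691, 701, 709, 719, 727, 733, 739, 743, 751, 757, 761, 769, 773, 787,
  797, 809, 811, 821, 823, 827, 829, 839, 853, 857, 859, 863, 877, 881, 883, 887, 907, 911, 919,
  929, 937, 941, 947, 953, 967, 971, 977, 983, 991, 997, 1009, 1013, 1019, 1021, 1031, 1033,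
  1039, 1049, 1051, 1061, 1063, 1069, 1087, 1091, 1093, 1097, 1103, 1109, 1117, 1123, 1129,
  1151, 1153, 1163, 1171, 1181, 1187, 1193, 1201, 1213, 1217, 1223, 1229, 1231, 1237, 1249,
  1259, 1277, 1279, 1283, 1289, 1291, 1297, 1301, 1303, 1307, 1319, 1321, 1327, 1361, 1367,
  1373, 1381, 1399, 1409, 1423, 1427, 1429, 1433, 1439, 1447, 1451, 1453, 1459, 1471, 1481,
  1483, 1487, 1489, 1493, 1499, 1511, 1523, 1531, 1543, 1549, 1553, 1559, 1567, 1571, 1579,
  1583, 1597, 1601, 1607, 1609, 1613, 1619, 1621, 1627, 1637, 1657, 1663, 1667, 1669, 1693,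
  1697, 1699, 1709, 1721, 1723, 1733, 1741, 1747, 1753, 1759, 1777, 1783, 1787, 1789, 1801,
  1811, 1823, 1831, 1847, 1861, 1867, 1871, 1873, 1877, 1879, 1889, 1901, 1907, 1913, 1931,
  1933, 1949, 1951, 1973, 1979, 1987, 1993, 1997, 1999]

theorem PR_eq : (List.range 2001).filter isP = PR := by decide +kernel

theorem mem_PR {p : ℕ} (hp : p.Prime) (h : p ≤ 2000) : p ∈ PR := by
  rw [← PR_eq, List.mem_filter, List.mem_range]
  exact ⟨by omega, (isP_iff p).2 hp⟩

theorem PR_sorted : PR.Pairwise (· < ·) := PR_eq ▸ List.pairwise_lt_range.filter _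

/-- The product of the `p ^ f p` over the entries `p ≤ B`. -/
def prodB (f : ℕ → ℕ) (B : ℕ) : List ℕ → ℕ
  | [] => 1
  | p :: l => if B < p then 1 else p ^ f p * prodB f B l

theorem dvd_prodB (f : ℕ → ℕ) {B p : ℕ} (hB : p ≤ B) :
    ∀ l : List ℕ, l.Pairwise (· < ·) → p ∈ l → p ^ f p ∣ prodB f B l
  | [], _, h => by simp at h
  | a :: l, hs, h => by
    rw [List.pairwise_cons] at hs
    rw [prodB]
    rcases List.mem_cons.1 h with rfl | h
    · rw [if_neg (by omega)]; exact Dvd.intro _ rfl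
    · rw [if_neg (by have := hs.1 p h; omega)]
      exact (dvd_prodB f hB l hs.2 h).mul_left _

theorem dvd_of_fac {x Y : ℕ} (hx : 0 < x) (h : ∀ p, p.Prime → p ^ x.factorization p ∣ Y) :
    x ∣ Y := (Nat.dvd_iff_prime_pow_dvd_dvd Y x).2 fun p _ hp hk =>
  (pow_dvd_pow p ((hp.pow_dvd_iff_le_factorization hx.ne').1 hk)).trans (h p hp)

theorem prodB_pos (f : ℕ → ℕ) (B : ℕ) : ∀ l : List ℕ, (∀ p ∈ l, 0 < p) → 0 < prodB f B l
  | [], _ => Nat.one_pos
  | a :: l, h => by
    rw [prodB]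
    split_ifs
    · exact Nat.one_pos
    · exact Nat.mul_pos (Nat.pow_pos (h a (by simp)))
        (prodB_pos f B l fun p hp => h p (List.mem_cons_of_mem _ hp))

theorem PR_pos (f : ℕ → ℕ) (B : ℕ) : 0 < prodB f B PR := prodB_pos f B PR fun p hp => by
  rw [← PR_eq, List.mem_filter, isP_iff] at hp
  exact hp.2.pos

/-- Legendre's sum. -/
def leg (p : ℕ) : ℕ → ℕ → ℕ
  | 0, k => k
  | f + 1, k => if k < p then 0 else k / p + leg p f (k / p)

theorem le_leg {p : ℕ} (hp : p.Prime) : ∀ f k, k.factorial.factorization p ≤ leg p f k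
  | 0, k => (Nat.factorization_factorial_le_div_pred hp k).trans (Nat.div_le_self _ _)
  | f + 1, k => by
    haveI := Fact.mk hp
    rw [leg]
    split_ifs with h
    · exact (Nat.factorization_factorial_eq_zero_of_lt h).le
    · have := le_leg hp f (k / p)
      rw [Nat.factorization_def _ hp] at this ⊢
      conv_lhs => rw [← Nat.div_add_mod k p]
      rw [padicValNat_factorial_mul_add _ (Nat.mod_lt k hp.pos), padicValNat_factorial_mul]
      omega

theorem le_leg' {p N B : ℕ} (hp : p.Prime) (h : N ≤ B) :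
    (N / p).factorial.factorization p ≤ leg p 20 (B / p) :=
  le_trans ((Nat.factorization_le_iff_dvd (Nat.factorial_ne_zero _) (Nat.factorial_ne_zero _)).2
    (Nat.factorial_dvd_factorial (Nat.div_le_div_right h)) p) (le_leg hp _ _)

/-- The bound for the number of classes. -/
def r2 (B m p : ℕ) : ℕ := B / (max 2 (max ((m + p - 1) / p) (min p ((m + 2) / 3))) * p)

theorem le_r2 {N B m m' p q r : ℕ} (hp : 0 < p) (h : N ≤ B) (hm : m ≤ m') (h1 : r * (q * p) ≤ N)
    (h2 : 2 ≤ q) (h3 : m' ≤ q * p) (h4 : p ≤ q ∨ m' ≤ 3 * q) : r ≤ r2 B m p := by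
  rw [r2, Nat.le_div_iff_mul_le (Nat.mul_pos (by omega) hp)]
  refine le_trans (Nat.mul_le_mul_left _ (Nat.mul_le_mul_right _ ?_)) (h1.trans h)
  refine max_le h2 (max_le ?_ ?_)
  · rw [← Nat.lt_succ_iff, Nat.div_lt_iff_lt_mul hp, Nat.succ_mul]; omega
  · omega

/-- A test for `One`. -/
def one (a B m p : ℕ) : Bool := decide (2 ≤ B / p) && decide (m ≤ B / p * p) &&
  (decide (p * p ≤ B) || decide (m ≤ 3 * (B / p)) ||
    decide (a ≤ B / p * p + 1 + B / p * (B / p).factorial))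

theorem one_of {n a B m m' p : ℕ} (hp : 0 < p) (ha : a ≤ n) (h : n - 1 ≤ B) (hm : m ≤ m')
    (h1 : One n m' p) : one a B m p = true := by
  obtain ⟨q, q1, q2, q3, q4⟩ := h1
  have h2 : q ≤ B / p := (Nat.le_div_iff_mul_le hp).2 (q3.trans h)
  have h3 := Nat.mul_le_mul_right p h2
  have h4 := Nat.mul_le_mul h2 (Nat.factorial_le h2)
  simp only [one, Bool.and_eq_true, Bool.or_eq_true, decide_eq_true_iff]
  omega

/-- The bound for the exponent. -/
def ex0 (a B m p : ℕ) : ℕ := leg p 20 (B / p) +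
  if 2 ≤ r2 B m p then r2 B m p else if one a B m p then 1 else 0

theorem le_ex0 {n a B m m' p e : ℕ} (hp : p.Prime) (ha : a ≤ n) (h : n - 1 ≤ B) (hm : m ≤ m')
    (he : ExpOK n m' p e) : e ≤ ex0 a B m p := by
  obtain ⟨r, h1, h2⟩ := he
  have h3 := le_leg' hp h
  rw [ex0]
  rcases h2 with rfl | ⟨rfl, h2⟩ | ⟨q, q1, q2, q3, q4, q5⟩
  · omega
  · rw [one_of hp.pos ha h hm h2]
    split_ifs <;> first | omega | contradiction
  · have := le_r2 hp.pos h hm q2 q3 q4 q5
    rw [if_pos (by omega)]; omega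

theorem exp_zero {n m p e : ℕ} (hp : p.Prime) (h : n - 1 < 2 * p) (he : ExpOK n m p e) :
    e = 0 := by
  obtain ⟨r, h1, h2⟩ := he
  rw [Nat.factorization_factorial_eq_zero_of_lt (Nat.div_lt_of_lt_mul
    (h.trans_le (Nat.mul_le_mul_right p hp.two_le)))] at h1
  rcases h2 with rfl | ⟨rfl, q, q1, -, q2, -⟩ | ⟨q, q1, q2, q3, -⟩
  · omega
  · nlinarith
  · have := Nat.mul_le_mul q1 (Nat.mul_le_mul_right p q3)
    omega

/-- A chain of intervals. -/
def go (f : ℕ → ℕ → ℕ → Bool) (e : ℕ) : ℕ → List (ℕ × ℕ) → Bool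
  | a, [] => decide (e < a)
  | a, c :: l => f a c.1 c.2 && go f e (c.1 + 1) l

theorem go_spec {f : ℕ → ℕ → ℕ → Bool} {e n : ℕ} (hn : n ≤ e) : ∀ (l : List (ℕ × ℕ)) (a : ℕ),
    go f e a l = true → a ≤ n → ∃ a b m, a ≤ n ∧ n ≤ b ∧ f a b m = true
  | [], a, h, ha => by simp only [go, decide_eq_true_iff] at h; omega
  | c :: l, a, h, ha => by
    rw [go, Bool.and_eq_true] at h
    rcases le_or_gt n c.1 with h1 | h1
    · exact ⟨a, c.1, c.2, ha, h1, h.1⟩
    · exact go_spec hn l _ h.2 h1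

theorem m_le {m m' N : ℕ} (h : 3 * ((m - 1) * (m - 1)) < 4 * N) (h' : 4 * N ≤ 3 * m' ^ 2) :
    m ≤ m' := by
  by_contra hlt
  have := Nat.mul_le_mul (show m' ≤ m - 1 by omega) (show m' ≤ m - 1 by omega)
  rw [pow_two] at h'
  omega

/-- The test for U2A. -/
def fA (a b m : ℕ) : Bool := decide (b ≤ 4000) && decide (3 * ((m - 1) * (m - 1)) < 4 * (a - 1)) &&
  decide (prodB (ex0 a (b - 1) m) ((b - 1) / 2) PR ^ 6 ≤ 2 ^ (11 * a))

theorem goA : go fA 4000 980
  [(1059, 37), (1140, 38), (1224, 39), (1324, 41), (1431, 43), (1546, 44), (1689, 46), (1824,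
  48), (1976, 50), (2157, 52), (2342, 54), (2545, 56), (2764, 59), (3005, 61), (3265, 64),
  (3561, 66), (3873, 69), (4000, 72)] = true := by decide +kernel

theorem u2a : U2aStmt := by
  intro n h1 h2 m' x hm hx he
  obtain ⟨a, b, m, ha, hb, h⟩ := go_spec h2 _ _ goA h1
  simp only [fA, Bool.and_eq_true, decide_eq_true_iff] at h
  obtain ⟨⟨h3, h4⟩, h5⟩ := h
  have h6 : m ≤ m' := m_le (N := n - 1) (by omega) hm
  refine le_trans (Nat.pow_le_pow_left (Nat.le_of_dvd (PR_pos _ _) (dvd_of_fac hx fun p hp => ?_)) 6)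
    (h5.trans (Nat.pow_le_pow_right two_pos (by omega)))
  rcases le_or_gt p ((b - 1) / 2) with h | h
  · exact (pow_dvd_pow p (le_ex0 hp ha (by omega) h6 (he p hp))).trans
      (dvd_prodB _ h PR PR_sorted (mem_PR hp (by omega)))
  · rw [exp_zero hp (by omega) (he p hp)]; simp

/-- The ten exceptional values. -/
def W (N : ℕ) : ℕ := (∏ i ∈ Finset.range 3, (N / 2 - i)) * ∏ i ∈ Finset.range 7, (N / 3 - i)

theorem W_pos {N : ℕ} (h : 100 ≤ N) : 0 < W N :=
  Nat.mul_pos (Finset.prod_pos fun i hi => by have := Finset.mem_range.1 hi; omega)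
    (Finset.prod_pos fun i hi => by have := Finset.mem_range.1 hi; omega)

theorem W_le (N : ℕ) : W N ≤ N ^ 10 := by
  rw [W, show N ^ 10 = N ^ (Finset.range 3).card * N ^ (Finset.range 7).card by simp; ring]
  exact Nat.mul_le_mul (Finset.prod_le_pow_card _ _ _ fun i _ => by omega)
    (Finset.prod_le_pow_card _ _ _ fun i _ => by omega)

theorem exp_split {n m p e : ℕ} (hp : p.Prime) (hn : 101 ≤ n) (hm : 4 * (n - 1) ≤ 3 * m ^ 2)
    (he : ExpOK n m p e) : ∃ a r, e ≤ a + (((n - 1) / p).factorial.factorization p + r) ∧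
      p ^ a ∣ primorial ((n - 1) / 4) * W (n - 1) ∧ (r = 0 ∨
        ∃ q, 1 ≤ r ∧ (r + 1) * (q * p) ≤ n - 1 ∧ 2 ≤ q ∧ m ≤ q * p ∧ (p ≤ q ∨ m ≤ 3 * q)) := by
  obtain ⟨r, h1, h2⟩ := he
  have h10 : 10 ≤ m := by
    by_contra h
    have := Nat.pow_le_pow_left (show m ≤ 9 by omega) 2
    omega
  have h4 : 4 * p ≤ n - 1 → p ^ 1 ∣ primorial ((n - 1) / 4) * W (n - 1) := fun h => by
    rw [pow_one]; exact (hp.dvd_primorial_iff.2 (by omega)).mul_right _
  rcases h2 with rfl | ⟨rfl, q, q1, q2, q3, q4⟩ | ⟨q, q1, q2, q3, q4⟩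
  · exact ⟨0, 0, by omega, by simp, Or.inl rfl⟩
  · refine ⟨1, 0, by omega, ?_, Or.inl rfl⟩
    by_cases h : 4 * p ≤ n - 1
    · exact h4 h
    have h5 : q < 4 := by
      by_contra h6
      have := Nat.mul_le_mul_right p (show 4 ≤ q by omega)
      omega
    have h6 : ¬ p * p ≤ n - 1 := fun h7 => by
      have := Nat.mul_le_mul_right p (show 4 ≤ p by omega)
      omega
    rw [pow_one]
    refine Dvd.dvd.mul_left ?_ _
    rcases (by omega : q = 2 ∨ q = 3) with rfl | rfl
    · refine Dvd.dvd.mul_right ?_ _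
      have h7 : Nat.factorial 2 = 2 := rfl
      rw [show p = (n - 1) / 2 - ((n - 1) / 2 - p) by omega]
      exact Finset.dvd_prod_of_mem (fun i => (n - 1) / 2 - i) (Finset.mem_range.2 (by omega))
    · refine Dvd.dvd.mul_left ?_ _
      have h7 : Nat.factorial 3 = 6 := rfl
      rw [show p = (n - 1) / 3 - ((n - 1) / 3 - p) by omega]
      exact Finset.dvd_prod_of_mem (fun i => (n - 1) / 3 - i) (Finset.mem_range.2 (by omega))
  · refine ⟨1, r - 1, by omega, h4 ?_, Or.inr ⟨q, by omega, by rwa [Nat.sub_add_cancel (by omega)],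
      q3, q4⟩⟩
    have := Nat.mul_le_mul q1 (Nat.mul_le_mul_right p q3)
    omega

theorem sq_le {N m p q r : ℕ} (h0 : 0 < N) (hm : 4 * N ≤ 3 * m ^ 2) (h1 : r * (q * p) ≤ N) (h2 : m ≤ 3 * q) :
    4 * (r * p) ^ 2 ≤ 27 * N := by
  have h3 : m * (r * p) ≤ 3 * N := by nlinarith [Nat.mul_le_mul_right (r * p) h2]
  have h4 := Nat.pow_le_pow_left h3 2
  refine Nat.le_of_mul_le_mul_left ?_ h0
  nlinarith [Nat.mul_le_mul_right ((r * p) ^ 2) hm]

/-- The test for U2B. -/
def fB (a b m : ℕ) : Bool := decide (3 * ((m - 1) * (m - 1)) < 4 * (a - 1)) &&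
  decide ((4 ^ ((b - 1) / 4) * (b - 1) ^ 10 *
    prodB (fun p => leg p 20 ((b - 1) / p) + (r2 (b - 1) m p - 1)) 700 PR) ^ 6 ≤ 2 ^ (11 * a))

theorem goB : go fB 262144 4000
  [(4096, 74), (4200, 74), (4300, 75), (4401, 76), (4509, 77), (4624, 78), (4753, 79), (4884,
  80), (5022, 81), (5166, 82), (5310, 83), (5472, 85), (5636, 86), (5812, 87), (6000, 89),
  (6183, 90), (6386, 91), (6604, 93), (6828, 94), (7040, 96), (7267, 97), (7514, 99), (7776,
  101), (8052, 102), (8348, 104), (8667, 106), (8992, 108), (9342, 110), (9704, 112), (10092,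
  114), (10500, 116), (10933, 119), (11388, 121), (11876, 124), (12390, 126), (12943, 129),
  (13504, 132), (14130, 135), (14792, 138), (15484, 141), (16228, 144), (17024, 148), (17876,
  151), (18784, 155), (19750, 159), (20788, 163), (21904, 167), (23100, 171), (24372, 176),
  (25742, 181), (27216, 186), (28804, 191), (30528, 196), (32372, 202), (34347, 208), (36501,
  214), (38804, 221), (41272, 228), (43974, 235), (46899, 243), (50048, 251), (53432, 259),
  (57122, 267), (61125, 276), (65436, 286), (70135, 296), (75215, 306), (80764, 317), (86804,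
  329), (93420, 341), (100616, 353), (108512, 367), (117128, 381), (126544, 396), (136900, 411),
  (148275, 428), (160728, 445), (174432, 463), (189472, 483), (205976, 503), (224116, 525),
  (244143, 547), (262144, 571)] = true := by decide +kernel

theorem u2b : U2bStmt := by
  intro n h1 h2 m' x hm hx he
  obtain ⟨a, b, m, ha, hb, h⟩ := go_spec h2 _ _ goB h1
  simp only [fB, Bool.and_eq_true, decide_eq_true_iff] at h
  obtain ⟨h4, h5⟩ := h
  have h6 : m ≤ m' := m_le (N := n - 1) (by omega) hm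
  refine le_trans (Nat.pow_le_pow_left ?_ 6) (h5.trans (Nat.pow_le_pow_right two_pos (by omega)))
  refine le_trans (Nat.le_of_dvd (Nat.mul_pos (Nat.mul_pos (primorial_pos ((n - 1) / 4))
    (W_pos (N := n - 1) (by omega))) (PR_pos _ _)) (dvd_of_fac hx fun p hp => ?_))
    (Nat.mul_le_mul_right _ (Nat.mul_le_mul ((primorial_le_four_pow _).trans
      (Nat.pow_le_pow_right (by norm_num) (by omega)))
      ((W_le _).trans (Nat.pow_le_pow_left (by omega) _))))
  obtain ⟨c, r, e1, e2, e3⟩ := exp_split hp (by omega) hm (he p hp)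
  refine (pow_dvd_pow p e1).trans ?_
  rw [pow_add]
  refine mul_dvd_mul e2 ?_
  rcases le_or_gt p 700 with h | h
  · refine (pow_dvd_pow p ?_).trans (dvd_prodB _ h PR PR_sorted (mem_PR hp (by omega)))
    have h7 := le_leg' (N := n - 1) (B := b - 1) hp (by omega)
    rcases e3 with rfl | ⟨q, q1, q2, q3, q4, q5⟩
    · omega
    · have := le_r2 (B := b - 1) hp.pos (by omega) h6 q2 q3 q4 q5
      omega
  · have h7 := Nat.mul_le_mul h h
    rw [Nat.factorization_factorial_eq_zero_of_lt (Nat.div_lt_of_lt_mul (by omega))]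
    rcases e3 with rfl | ⟨q, q1, q2, q3, q4, q5 | q5⟩
    · simp
    · have := Nat.mul_le_mul (show 1 ≤ r + 1 by omega) (Nat.mul_le_mul_right p q5)
      omega
    · have h8 := sq_le (by omega) hm q2 q5
      have h9 : 1402 ^ 2 ≤ ((r + 1) * p) ^ 2 :=
        Nat.pow_le_pow_left (Nat.mul_le_mul (show 2 ≤ r + 1 by omega) h) 2
      omega

end Cfsg.Agent.H87.PS
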