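import Cfsg.Agent.H87.PWDefs
import Cfsg.Agent.S3620

set_option autoImplicit false
open Equiv

namespace Cfsg.Agent.H87.PW

theorem prim : PrimStmt := by
  intro ι α _ _ _ _ hm S b r hr hco htop
  by_cases htriv : ∀ x y, (∀ l, l ∉ S → x l = b l) → (∀ l, l ∉ S → y l = b l) → r x y → x = y
  · exact Or.inl htriv
  right
  push Not at htriv
  obtain ⟨x, y, hx, hy, hxy, hne⟩ := htriv
  obtain ⟨i, hi⟩ : ∃ i, x i ≠ y i := Function.ne_iff.1 hne
  have hiS : i ∈ S := by
    by_contra h
    exact hi ((hx i h).trans (hy i h).symm)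
  -- invariance under base elements supported in S
  have hbase : ∀ (s : Finset ι) (τ : ι → Perm α), (∀ l ∈ s, l ∈ S ∧ Perm.sign (τ l) = 1) →
      ∀ u v, r u v → r (fun l => if l ∈ s then τ l (u l) else u l)
        (fun l => if l ∈ s then τ l (v l) else v l) := by
    intro s τ
    induction s using Finset.induction_on with
    | empty => intro _ u v h; simpa using h
    | insert j s hj ih =>
      intro hs u v h
      have h1 := ih (fun l hl => hs l (Finset.mem_insert_of_mem hl)) u v h
      have h2 := hco j (hs j (Finset.mem_insert_self _ _)).1 (τ j)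
        (hs j (Finset.mem_insert_self _ _)).2 _ _ h1
      convert h2 using 1
      · funext l
        by_cases e : l = j
        · subst e; simp [hj]
        · simp [co_ne e, e]
      · funext l
        by_cases e : l = j
        · subst e; simp [hj]
        · simp [co_ne e, e]
  -- from one related adjacent pair in direction j to all of them
  have hall : ∀ j ∈ S, ∀ (u : ι → α) (z : α), (∀ l, l ∉ S → u l = b l) → z ≠ u j →
      r u (Function.update u j z) →
      ∀ (w : ι → α) (v : α), (∀ l, l ∉ S → w l = b l) → r w (Function.update w j v) := by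
    classical
    intro j hj u z hu hz huz w v hw
    by_cases hv : v = w j
    · rw [hv, Function.update_eq_self]; exact hr.refl _
    have hτ : ∀ l, ∃ τ : Perm α, Perm.sign τ = 1 ∧ τ (u l) = w l ∧ (l = j → τ z = v) := by
      intro l
      by_cases e : l = j
      · subst e
        obtain ⟨τ, h1, h2, h3⟩ := exists_even2 hm hz.symm (Ne.symm hv)
        exact ⟨τ, h1, h2, fun _ => h3⟩
      · obtain ⟨τ, h1, h2⟩ := exists_even1 hm (u l) (w l)
        exact ⟨τ, h1, h2, fun e' => absurd e' e⟩
    choose τ h1 h2 h3 using hτ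
    have := hbase (Finset.univ.filter (· ∈ S)) τ (fun l hl => ⟨by simpa using hl, h1 l⟩) _ _ huz
    convert this using 1
    · funext l
      by_cases e : l ∈ S
      · simp [e, h2]
      · simp [e, hu l e, hw l e]
    · funext l
      by_cases e : l = j
      · subst e; simp [hj, h3 l rfl]
      · by_cases e' : l ∈ S
        · simp [e, e', h2]
        · simp [e, e', hu l e', hw l e']
  obtain ⟨z, hz1, hz2, -⟩ := exists_new hm (x i) (y i) (y i) (y i)
  obtain ⟨τ, hτ, hτ1, hτ2⟩ := exists_even2 hm hi hz1.symm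
  have h1 : r y (Function.update y i z) := by
    have h := hco i hiS τ hτ _ _ hxy
    rw [(co_fix_iff i τ x).2 hτ1, co_apply, hτ2] at h
    exact hr.trans (hr.symm hxy) h
  have h2 : ∀ j ∈ S, ∀ (w : ι → α) (v : α), (∀ l, l ∉ S → w l = b l) →
      r w (Function.update w j v) := by
    intro j hj
    obtain ⟨π, σ, hπ, hfix, hinv⟩ := htop i hiS j hj
    have h := hinv _ _ h1
    have e : wr π σ (Function.update y i z) = Function.update (wr π σ y) j (σ j z) := by
      funext l
      by_cases e : l = j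
      · subst e; rw [← hπ]; simp
      · have : π.symm l ≠ i := fun e' => e (by rw [← hπ, ← e']; simp)
        simp [e, this]
    rw [e] at h
    refine hall j hj _ _ (fun l hl => ?_) ?_ h
    · have : π.symm l = l := by rw [Equiv.symm_apply_eq]; exact (hfix l hl).1.symm
      simp [this, hy l hl, (hfix l hl).2]
    · rw [← hπ]; simpa using hz2
  intro u w hu hw
  have := conn (fun v => (∀ l, l ∉ S → v l = b l) ∧ r u v) S (fun v hv j hj t =>
    ⟨fun l hl => by
      have : l ≠ j := fun e => hl (e ▸ hj)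
      simp [this, hv.1 l hl], hr.trans hv.2 (h2 j hj v t hv.1)⟩) (x := u) (y := w)
    ⟨hu, hr.refl _⟩ (fun l hl => (hu l hl).trans (hw l hl).symm)
  exact this.2

section
variable {ι α : Type} [Fintype ι] [DecidableEq ι] [Fintype α] [DecidableEq α]

/-- primitivity on a hyperplane, in the form used by the pieces: the relation has to be invariant
under `co j τ` and under the top elements with `τ i ∈ {1, swap d e}` -/
theorem primH {H : Subgroup (Perm (ι → α))} (hm : 5 ≤ Fintype.card α) (hH : Hyp H) (i : ι)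
    (a d e : α) (hde : d ≠ e) (hd : d ≠ a) (he : e ≠ a) (r : (ι → α) → (ι → α) → Prop)
    (hr : Equivalence r)
    (hco : ∀ j, j ≠ i → ∀ τ : Perm α, Perm.sign τ = 1 → ∀ x y, r x y → r (co j τ x) (co j τ y))
    (htop : ∀ (π : Perm ι) (τ : ι → Perm α), wr π τ ∈ H → π i = i → (τ i = 1 ∨ τ i = swap d e) →
      ∀ x y, r x y → r (wr π τ x) (wr π τ y)) :
    (∀ x y, x i = a → y i = a → r x y → x = y) ∨ (∀ x y, x i = a → y i = a → r x y) := by
  have key := prim ι α hm {j | j ≠ i} (fun _ => a) r hr (fun j hj => hco j hj) (by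
    intro j hj l hl
    obtain ⟨τ, hτ, h⟩ := hH.top' (swap j l) (fun _ => d) (fun _ => e) (fun _ => hde)
    have hi : swap j l i = i := swap_apply_of_ne_of_ne (Ne.symm hj) (Ne.symm hl)
    refine ⟨swap j l, τ, swap_apply_left _ _, fun t ht => ?_, htop _ _ hτ hi (h i)⟩
    have ht' : t = i := by simpa using ht
    subst ht'
    refine ⟨hi, ?_⟩
    rcases h t with h | h
    · simp [h]
    · rw [h, swap_apply_of_ne_of_ne hd.symm he.symm])
  have e : ∀ x : ι → α, x i = a → ∀ l, l ∉ {j | j ≠ i} → x l = a := by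
    intro x hx l hl
    have : l = i := by simpa using hl
    rw [this, hx]
  rcases key with h | h
  · exact Or.inl fun x y hx hy => h x y (e x hx) (e y hy)
  · exact Or.inr fun x y hx hy => h x y (e x hx) (e y hy)

theorem quasiprim {H : Subgroup (Perm (ι → α))} (hm : 5 ≤ Fintype.card α) (hH : Hyp H)
    (N : Subgroup H) (hN : N.Normal) (hne : N ≠ ⊥) : MulAction.IsPretransitive N (ι → α) := by
  haveI : Nonempty α := Fintype.card_pos_iff.1 (by omega)
  let r : (ι → α) → (ι → α) → Prop := fun x y => ∃ g : H, g ∈ N ∧ (g : Perm (ι → α)) x = y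
  have hr : Equivalence r := ⟨fun x => ⟨1, N.one_mem, rfl⟩,
    fun ⟨g, hg, e⟩ => ⟨g⁻¹, N.inv_mem hg, by rw [← e]; simp⟩,
    fun ⟨g, hg, e⟩ ⟨g', hg', e'⟩ => ⟨g' * g, N.mul_mem hg' hg, by rw [← e', ← e]; simp⟩⟩
  have hinv : ∀ h ∈ H, ∀ x y, r x y → r (h x) (h y) := by
    rintro h hh x y ⟨g, hg, e⟩
    exact ⟨⟨h, hh⟩ * g * ⟨h, hh⟩⁻¹, hN.conj_mem _ hg _, by rw [← e]; simp⟩
  have key := prim ι α hm Set.univ (fun _ => Classical.arbitrary α) r hr
    (fun j _ τ hτ => hinv _ (hH.co_mem j τ hτ)) (by
      intro j _ l _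
      obtain ⟨τ, hτ⟩ := hH.top (swap j l)
      exact ⟨swap j l, τ, swap_apply_left _ _, fun t ht => absurd (Set.mem_univ t) ht,
        hinv _ hτ⟩)
  rcases key with h | h
  · exfalso
    apply hne
    rw [eq_bot_iff]
    intro g hg
    rw [Subgroup.mem_bot]
    ext x j
    have := h x _ (by simp) (by simp) ⟨g, hg, rfl⟩
    rw [← this]; rfl
  · refine ⟨fun x y => ?_⟩
    obtain ⟨g, hg, e⟩ := h x y (by simp) (by simp)
    exact ⟨⟨g, hg⟩, e⟩

end

theorem jw : JWStmt := by
  intro ι α _ _ _ _ H hc Γ h1 h2 htr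
  apply hc.small
  have key := Cfsg.Agent.S3620.result (G := H) (Ω := ι → α) (quasiprim hc.hm hc.hyp) Γ h1 h2 (by
    refine ⟨fun x y => ?_⟩
    have hx : (x : ι → α) ∈ Γ := by
      have := x.2
      rw [SubMulAction.mem_ofFixingSubgroup_iff] at this
      simpa using this
    have hy : (y : ι → α) ∈ Γ := by
      have := y.2
      rw [SubMulAction.mem_ofFixingSubgroup_iff] at this
      simpa using this
    obtain ⟨g, hg, hfix, e⟩ := htr _ hx _ hy
    refine ⟨⟨⟨g, hg⟩, ?_⟩, Subtype.ext e⟩
    rw [mem_fixingSubgroup_iff]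
    intro z hz
    exact hfix z hz)
  intro σ hσ
  obtain ⟨x, hx⟩ := key σ (Perm.mem_alternatingGroup.1 hσ)
  have : (x : Perm (ι → α)) = σ := by rw [← hx]; ext y; rfl
  rw [← this]; exact x.2

theorem t0 : T0Stmt := by
  intro ι α _ _ _ _ H hc g hg i a hsupp
  by_contra hne
  have hm := hc.hm
  have hk := hc.hk
  let r : (ι → α) → (ι → α) → Prop :=
    fun x y => ∃ k ∈ H, (∀ z : ι → α, z i ≠ a → k z = z) ∧ k x = y
  have hr : Equivalence r := ⟨fun x => ⟨1, H.one_mem, fun _ _ => rfl, rfl⟩,
    fun ⟨k, hk, h, e⟩ => ⟨k⁻¹, H.inv_mem hk, fun z hz => by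
      rw [Perm.inv_eq_iff_eq]; exact (h z hz).symm, by rw [← e]; simp⟩,
    fun ⟨k, hk, h, e⟩ ⟨k', hk', h', e'⟩ => ⟨k' * k, H.mul_mem hk' hk, fun z hz => by
      rw [Perm.mul_apply, h z hz, h' z hz], by rw [← e', ← e]; simp⟩⟩
  have hinv : ∀ h ∈ H, (∀ z : ι → α, z i ≠ a → (h⁻¹ z) i ≠ a) → ∀ x y, r x y → r (h x) (h y) := by
    rintro h hh hs x y ⟨k, hk, hf, e⟩
    refine ⟨h * k * h⁻¹, H.mul_mem (H.mul_mem hh hk) (H.inv_mem hh), fun z hz => ?_,
      by rw [← e]; simp⟩
    simp only [Perm.mul_apply]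
    rw [hf _ (hs z hz)]; simp
  obtain ⟨d, hd, -⟩ := exists_new hm a a a a
  obtain ⟨e, he, hed, -⟩ := exists_new hm a d d d
  have key := primH hm hc.hyp i a d e hed.symm hd he r hr
    (fun j hj τ hτ => hinv _ (hc.hyp.co_mem j τ hτ) (fun z hz => by
      rw [← co_inv, co_ne (Ne.symm hj)]; exact hz))
    (fun π τ h hi hτ => hinv _ h (fun z hz => by
      rw [wr_inv_apply, hi]
      intro e'
      apply hz
      rw [Perm.inv_eq_iff_eq] at e'
      rw [e']
      rcases hτ with h | h
      · simp [h]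
      · rw [h, swap_apply_of_ne_of_ne hd.symm he.symm]))
  rcases key with h | h
  · apply hne
    ext1 x
    by_cases hx : x i = a
    · have hy : g x i = a := by
        by_contra hy
        have := g.injective (hsupp _ hy)
        exact hy (by rw [this]; exact hx)
      exact (h x _ hx hy ⟨g, hg, hsupp, rfl⟩).symm
    · exact hsupp x hx
  · have hcard : ({x : ι → α | x i = a}).ncard = Fintype.card α ^ (Fintype.card ι - 1) := by
      have := card_slice (ι := ι) i ({a} : Finset α)
      rw [Finset.card_singleton, one_mul] at this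
      rw [← this, ← Set.ncard_coe_finset]
      congr 1; ext x; simp
    have hpow : Fintype.card (ι → α) = Fintype.card α * Fintype.card α ^ (Fintype.card ι - 1) := by
      rw [Fintype.card_fun, ← pow_succ']; congr 1; omega
    have hpos : 1 < Fintype.card α ^ (Fintype.card ι - 1) := Nat.one_lt_pow (by omega) (by omega)
    refine jw ι α H hc {x | x i = a} (by omega) (by rw [hcard, hpow]; nlinarith) ?_
    intro x hx y hy
    exact h x y hx hy

end Cfsg.Agent.H87.PW
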