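import Cfsg.Agent.H87.PWA

set_option autoImplicit false
open Equiv

namespace Cfsg.Agent.H87.PW

section jc
variable {β : Type} [Fintype β] [DecidableEq β] (H : Subgroup (Perm β)) (N : ℕ)

/-- small Jordan complements -/
def JC (F : Finset β) : Prop :=
  F.card ≤ N ∧ ∀ x y, x ∉ F → y ∉ F → ∃ g ∈ H, (∀ z ∈ F, g z = z) ∧ g x = y

variable {H N}

omit [Fintype β] in
theorem JC.image {F : Finset β} (hF : JC H N F) {h : Perm β} (hh : h ∈ H) : JC H N (F.image h) := by
  refine ⟨Finset.card_image_le.trans hF.1, fun x y hx hy => ?_⟩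
  have e : ∀ x, x ∉ F.image h → h⁻¹ x ∉ F := fun x hx h' =>
    hx (Finset.mem_image.2 ⟨_, h', by simp⟩)
  obtain ⟨g, hg, h1, h2⟩ := hF.2 _ _ (e x hx) (e y hy)
  refine ⟨h * g * h⁻¹, H.mul_mem (H.mul_mem hh hg) (H.inv_mem hh), fun z hz => ?_,
    by rw [Perm.mul_apply, Perm.mul_apply, h2]; simp⟩
  obtain ⟨w, hw, rfl⟩ := Finset.mem_image.1 hz
  simp [h1 w hw]

theorem JC.inter (hN : 2 * N < Fintype.card β) {F F' : Finset β} (hF : JC H N F)
    (hF' : JC H N F') : JC H N (F ∩ F') := by
  refine ⟨(Finset.card_le_card Finset.inter_subset_left).trans hF.1, ?_⟩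
  obtain ⟨w, hw⟩ : ∃ w, w ∉ F ∪ F' := by
    by_contra h
    push Not at h
    have h1 : (Finset.univ : Finset β) ⊆ F ∪ F' := fun w _ => h w
    have h2 := Finset.card_le_card h1
    have h3 := Finset.card_union_le F F'
    have := hF.1
    have := hF'.1
    rw [Finset.card_univ] at h2
    omega
  rw [Finset.mem_union, not_or] at hw
  have key : ∀ x, x ∉ F ∩ F' → ∃ g ∈ H, (∀ z ∈ F ∩ F', g z = z) ∧ g x = w := by
    intro x hx
    rw [Finset.mem_inter, not_and_or] at hx
    rcases hx with hx | hx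
    · obtain ⟨g, hg, h1, h2⟩ := hF.2 x w hx hw.1
      exact ⟨g, hg, fun z hz => h1 z (Finset.mem_inter.1 hz).1, h2⟩
    · obtain ⟨g, hg, h1, h2⟩ := hF'.2 x w hx hw.2
      exact ⟨g, hg, fun z hz => h1 z (Finset.mem_inter.1 hz).2, h2⟩
  intro x y hx hy
  obtain ⟨g, hg, h1, h2⟩ := key x hx
  obtain ⟨g', hg', h1', h2'⟩ := key y hy
  refine ⟨g'⁻¹ * g, H.mul_mem (H.inv_mem hg') hg, fun z hz => ?_, ?_⟩
  · rw [Perm.mul_apply, h1 z hz, Perm.inv_eq_iff_eq, h1' z hz]
  · rw [Perm.mul_apply, h2, Perm.inv_eq_iff_eq, h2']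

/-- the least small Jordan complement containing `X` -/
def IsCl (H : Subgroup (Perm β)) (N : ℕ) (X C : Finset β) : Prop :=
  JC H N C ∧ X ⊆ C ∧ ∀ F, JC H N F → X ⊆ F → C ⊆ F

theorem exists_cl (hN : 2 * N < Fintype.card β) {X F0 : Finset β} (h0 : JC H N F0) (hX : X ⊆ F0) :
    ∃ C, IsCl H N X C := by
  classical
  obtain ⟨C, hC, hmin⟩ := Finset.exists_min_image
    (Finset.univ.filter (fun F : Finset β => JC H N F ∧ X ⊆ F)) Finset.card ⟨F0, by simp [h0, hX]⟩
  simp only [Finset.mem_filter, Finset.mem_univ, true_and] at hC hmin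
  refine ⟨C, hC.1, hC.2, fun F hF hXF => ?_⟩
  have h1 := hmin (C ∩ F) ⟨hC.1.inter hN hF, Finset.subset_inter hC.2 hXF⟩
  have h2 := Finset.eq_of_subset_of_card_le (Finset.inter_subset_left (s₁ := C) (s₂ := F)) h1
  rw [← h2]; exact Finset.inter_subset_right

omit [Fintype β] in
theorem image_inv_image (h : Perm β) (F : Finset β) : (F.image h).image (h⁻¹ : Perm β) = F := by
  rw [Finset.image_image]; simp

omit [Fintype β] in
theorem image_image_inv (h : Perm β) (F : Finset β) : (F.image (h⁻¹ : Perm β)).image h = F := by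
  rw [Finset.image_image]; simp

omit [Fintype β] in
theorem IsCl.image {X C : Finset β} (hC : IsCl H N X C) {h : Perm β} (hh : h ∈ H) :
    IsCl H N (X.image h) (C.image h) := by
  refine ⟨hC.1.image hh, Finset.image_subset_image hC.2.1, fun F hF hXF => ?_⟩
  have h1 : X ⊆ F.image (h⁻¹ : Perm β) := by
    rw [← image_inv_image h X]; exact Finset.image_subset_image hXF
  have h2 := Finset.image_subset_image (f := h) (hC.2.2 _ (hF.image (H.inv_mem hh)) h1)
  rwa [image_image_inv] at h2

theorem ext_lemma (hN : 2 * N < Fintype.card β) {P : Finset β} (hP : JC H N P) (hPc : P.card = N)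
    (d : ℕ) : ∀ F : Finset β, JC H N F → F ⊆ P → N - F.card = d → ∀ h ∈ H, F.image h ⊆ P →
      ∃ h' ∈ H, (∀ z ∈ F, h' z = h z) ∧ P.image h' = P := by
  induction d using Nat.strong_induction_on with
  | _ d ih =>
  intro F hF hFP hd h hh hhP
  have hci : ∀ (g : Perm β) (s : Finset β), (s.image g).card = s.card :=
    fun g s => Finset.card_image_of_injective _ g.injective
  by_cases hfull : F = P
  · subst hfull
    exact ⟨h, hh, fun _ _ => rfl, Finset.eq_of_subset_of_card_le hhP (by rw [hci])⟩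
  have hlt : F.card < P.card := Finset.card_lt_card (lt_of_le_of_ne hFP hfull)
  obtain ⟨x, hxP, hxF⟩ := Finset.exists_mem_notMem_of_card_lt_card hlt
  obtain ⟨x', hxP', hxF'⟩ := Finset.exists_mem_notMem_of_card_lt_card
    (s := F.image h) (t := P) (by rw [hci]; exact hlt)
  obtain ⟨k, hk, hk1, hk2⟩ := (hF.image hh).2 (h x) x'
    (fun e => by
      obtain ⟨w, hw, e'⟩ := Finset.mem_image.1 e
      exact hxF (h.injective e' ▸ hw)) hxF'
  obtain ⟨C, hC⟩ := exists_cl hN hP (Finset.insert_subset hxP hFP)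
  have hkh : k * h ∈ H := H.mul_mem hk hh
  have hC' := hC.image hkh
  have hagree : ∀ z ∈ F, (k * h) z = h z := fun z hz => hk1 _ (Finset.mem_image_of_mem _ hz)
  have hsub : (C.image (k * h)) ⊆ P := by
    apply hC'.2.2 P hP
    intro w hw
    obtain ⟨z, hz, rfl⟩ := Finset.mem_image.1 hw
    rcases Finset.mem_insert.1 hz with rfl | hz
    · rw [Perm.mul_apply, hk2]; exact hxP'
    · rw [hagree z hz]; exact hhP (Finset.mem_image_of_mem _ hz)
  have hcard : F.card < C.card := by
    have := Finset.card_le_card hC.2.1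
    rw [Finset.card_insert_of_notMem hxF] at this
    omega
  obtain ⟨h', hh', h1, h2⟩ := ih (N - C.card) (by omega) C hC.1
    (hC.2.2 P hP (Finset.insert_subset hxP hFP)) rfl _ hkh hsub
  exact ⟨h', hh', fun z hz => by
    rw [h1 z (hC.2.1 (Finset.mem_insert_of_mem hz)), hagree z hz], h2⟩

omit [Fintype β] in
theorem tuple_lemma {P : Finset β} {t : ℕ} (hsub : ∀ X ⊆ P, X.card < t → JC H N X) (s : ℕ)
    (hs : s ≤ t) : ∀ x p : Fin s → β, Function.Injective x → Function.Injective p →
      (∀ i, p i ∈ P) → ∃ g ∈ H, ∀ i, g (x i) = p i := by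
  induction s with
  | zero => intro x p _ _ _; exact ⟨1, H.one_mem, fun i => i.elim0⟩
  | succ s ih =>
    intro x p hx hp hP
    obtain ⟨g, hg, h⟩ := ih (by omega) (fun i => x i.succ) (fun i => p i.succ)
      (fun i j e => Fin.succ_injective _ (hx e)) (fun i j e => Fin.succ_injective _ (hp e))
      (fun i => hP _)
    have hF := hsub (Finset.univ.image (fun i : Fin s => p i.succ)) (by
      intro z hz
      obtain ⟨i, -, rfl⟩ := Finset.mem_image.1 hz
      exact hP _) (by
        have : (Finset.univ.image (fun i : Fin s => p i.succ)).card ≤ s := by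
          simpa using Finset.card_image_le (s := Finset.univ) (f := fun i : Fin s => p i.succ)
        omega)
    obtain ⟨k, hk, h1, h2⟩ := hF.2 (g (x 0)) (p 0) (by
      intro e
      obtain ⟨i, -, e'⟩ := Finset.mem_image.1 e
      rw [← h i] at e'
      exact Fin.succ_ne_zero i (hx (g.injective e'))) (by
      intro e
      obtain ⟨i, -, e'⟩ := Finset.mem_image.1 e
      exact Fin.succ_ne_zero i (hp e'))
    refine ⟨k * g, H.mul_mem hk hg, fun i => ?_⟩
    refine Fin.cases ?_ (fun i => ?_) i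
    · exact h2
    · rw [Perm.mul_apply, h i]
      exact h1 _ (Finset.mem_image_of_mem _ (Finset.mem_univ i))

omit [Fintype β] [DecidableEq β] in
theorem enum_finset (X : Finset β) {t : ℕ} (h : X.card = t) :
    ∃ p : Fin t → β, Function.Injective p ∧ (∀ i, p i ∈ X) ∧ ∀ z ∈ X, ∃ i, p i = z := by
  let e := (X.equivFinOfCardEq h).symm
  exact ⟨fun i => e i, fun i j h => e.injective (Subtype.ext h), fun i => (e i).2,
    fun z hz => ⟨e.symm ⟨z, hz⟩, by simp⟩⟩

omit [Fintype β] in
theorem multi_of_sub {P : Finset β} {t : ℕ} (ht : t ≤ P.card)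
    (hsub : ∀ X ⊆ P, X.card < t → JC H N X) : MulAction.IsMultiplyPretransitive H β t := by
  obtain ⟨X, hX, hc⟩ := Finset.exists_subset_card_eq ht
  obtain ⟨p, hp, hpX, -⟩ := enum_finset X hc
  rw [MulAction.isMultiplyPretransitive_iff]
  intro x y
  obtain ⟨g, hg, h⟩ := tuple_lemma hsub t le_rfl x p x.injective hp (fun i => hX (hpX i))
  obtain ⟨g', hg', h'⟩ := tuple_lemma hsub t le_rfl y p y.injective hp (fun i => hX (hpX i))
  refine ⟨⟨g'⁻¹ * g, H.mul_mem (H.inv_mem hg') hg⟩, ?_⟩
  ext i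
  change (g'⁻¹ * g) (x i) = y i
  rw [Perm.mul_apply, h i, Perm.inv_eq_iff_eq, h' i]

omit [Fintype β] in
theorem set_of_sub {P : Finset β} {t : ℕ} (hsub : ∀ X ⊆ P, X.card < t → JC H N X)
    {X Z : Finset β} (hX : X ⊆ P) (hXc : X.card = t) (hZ : Z.card = t) :
    ∃ g ∈ H, X.image g = Z := by
  obtain ⟨p, hp, hpX, hp'⟩ := enum_finset X hXc
  obtain ⟨q, hq, hqZ, hq'⟩ := enum_finset Z hZ
  obtain ⟨g, hg, h⟩ := tuple_lemma hsub t le_rfl q p hq hp (fun i => hX (hpX i))
  refine ⟨g⁻¹, H.inv_mem hg, Finset.eq_of_subset_of_card_le ?_ ?_⟩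
  · intro w hw
    obtain ⟨z, hz, rfl⟩ := Finset.mem_image.1 hw
    obtain ⟨i, rfl⟩ := hp' z hz
    rw [← h i]; simpa using hqZ i
  · rw [Finset.card_image_of_injective _ (g⁻¹).injective]; omega

theorem exists_even_image {A B : Finset β} (h : A.card = B.card)
    (h2 : A.card + 2 ≤ Fintype.card β) : ∃ ψ : Perm β, Perm.sign ψ = 1 ∧ A.image ψ = B := by
  obtain ⟨σ, hσ⟩ := Perm.exists_map_finset_eq A B h
  have hσ' : A.image σ = B := by rw [← hσ, Finset.map_eq_image]; rfl
  have : 1 < Aᶜ.card := by rw [Finset.card_compl]; omega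
  obtain ⟨u, hu, v, hv, huv⟩ := Finset.one_lt_card.1 this
  rw [Finset.mem_compl] at hu hv
  rcases even_or_swap σ huv with e | e
  · exact ⟨σ, e, hσ'⟩
  · refine ⟨_, e, ?_⟩
    rw [← hσ']
    apply Finset.image_congr
    intro z hz
    have h1 : z ≠ u := fun e => hu (e ▸ hz)
    have h2 : z ≠ v := fun e => hv (e ▸ hz)
    simp [swap_apply_of_ne_of_ne h1 h2]

end jc

section cube
variable {ι α : Type} [Fintype ι] [DecidableEq ι] [Fintype α] [DecidableEq α]

/-- a hyperplane as a finset -/
def hyp (i : ι) (a : α) : Finset (ι → α) := Finset.univ.filter (fun x => x i = a)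

@[simp] theorem mem_hyp {i : ι} {a : α} {x : ι → α} : x ∈ hyp i a ↔ x i = a := by simp [hyp]

theorem card_hyp (i : ι) (a : α) :
    (hyp i a).card = Fintype.card α ^ (Fintype.card ι - 1) := by
  have := card_slice (ι := ι) i ({a} : Finset α)
  rw [Finset.card_singleton, one_mul] at this
  rw [← this]; congr 1; ext x; simp

theorem two_N_lt {H : Subgroup (Perm (ι → α))} (hc : Ctx H) :
    2 * Fintype.card α ^ (Fintype.card ι - 1) < Fintype.card (ι → α) := by
  have hm := hc.hm
  have hk := hc.hk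
  have hpow : Fintype.card (ι → α) = Fintype.card α * Fintype.card α ^ (Fintype.card ι - 1) := by
    rw [Fintype.card_fun, ← pow_succ']; congr 1; omega
  have hpos : 1 < Fintype.card α ^ (Fintype.card ι - 1) := Nat.one_lt_pow (by omega) (by omega)
  rw [hpow]; nlinarith

theorem jc_hyp {H : Subgroup (Perm (ι → α))} (hJ : Jord H) (i : ι) (a : α) :
    JC H (Fintype.card α ^ (Fintype.card ι - 1)) (hyp i a) := by
  refine ⟨(card_hyp i a).le, fun x y hx hy => ?_⟩
  obtain ⟨g, hg, h1, h2⟩ := hJ i a x y (by simpa using hx) (by simpa using hy)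
  exact ⟨g, hg, fun z hz => h1 z (by simpa using hz), h2⟩

theorem jc_point {H : Subgroup (Perm (ι → α))} (hc : Ctx H) (hJ : Jord H) (x : ι → α) :
    JC H (Fintype.card α ^ (Fintype.card ι - 1)) {x} := by
  have key : ∀ s : Finset ι, s.Nonempty → JC H (Fintype.card α ^ (Fintype.card ι - 1))
      (Finset.univ.filter (fun z : ι → α => ∀ l ∈ s, z l = x l)) := by
    intro s hs
    induction hs using Finset.Nonempty.cons_induction with
    | singleton i => convert jc_hyp hJ i (x i) using 1; ext z; simp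
    | cons i s hi hs ih =>
      convert (jc_hyp hJ i (x i)).inter (two_N_lt hc) ih using 1
      ext z; simp
  have hk := hc.hk
  have : Nonempty ι := Fintype.card_pos_iff.1 (by omega)
  convert key Finset.univ Finset.univ_nonempty using 1
  ext z; simp [funext_iff]

theorem jc_empty {H : Subgroup (Perm (ι → α))} (hc : Ctx H) (hJ : Jord H) :
    JC H (Fintype.card α ^ (Fintype.card ι - 1)) ∅ := by
  have hk := hc.hk
  have hm := hc.hm
  obtain ⟨i⟩ : Nonempty ι := Fintype.card_pos_iff.1 (by omega)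
  obtain ⟨a, b, hab⟩ := Fintype.exists_pair_of_one_lt_card (α := α) (by omega)
  convert (jc_hyp hJ i a).inter (two_N_lt hc) (jc_hyp hJ i b) using 1
  ext z; simp; intro h; rw [h]; exact hab

end cube

theorem jk3 : JK3Stmt := by
  intro ι α _ _ _ _ H hc hk hI hJ
  have hm := hc.hm
  have h2N := two_N_lt hc
  set N := Fintype.card α ^ (Fintype.card ι - 1) with hN
  set M := Fintype.card α ^ (Fintype.card ι - 2) with hM
  have hNM : N = Fintype.card α * M := by
    rw [hN, hM, ← pow_succ']; congr 1; omega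
  have hMpos : 0 < M := pow_pos (by omega) _
  obtain ⟨i, j, j2, hij, hij2, hjj2⟩ := Fintype.two_lt_card_iff.1 (show 2 < Fintype.card ι by omega)
  obtain ⟨a, b, hab⟩ := Fintype.exists_pair_of_one_lt_card (α := α) (by omega)
  let x : ι → α := fun _ => a
  let y : ι → α := Function.update x j b
  let y' : ι → α := Function.update y j2 b
  have hyx : y ≠ x := fun e => hab (by simpa [x, y] using (congrFun e j).symm)
  have hyx' : y' ≠ x := fun e => hab (by simpa [x, y'] using (congrFun e j2).symm)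
  have hP := jc_hyp hJ i a
  have hxP : x ∈ hyp i a := by simp [x]
  have hyP : y ∈ hyp i a := by simp [x, y, hij]
  have hyP' : y' ∈ hyp i a := by simp [x, y, y', hij, hij2]
  obtain ⟨h0, hh0, h01, h02⟩ := (jc_point hc hJ x).2 y y' (by simpa using hyx) (by simpa using hyx')
  have h01' : h0 x = x := h01 x (by simp)
  have hsub : ({x, y} : Finset (ι → α)) ⊆ hyp i a := by
    intro z hz; rcases Finset.mem_insert.1 hz with rfl | hz
    · exact hxP
    · rw [Finset.mem_singleton.1 hz]; exact hyP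
  obtain ⟨C, hC⟩ := exists_cl h2N hP hsub
  have hC' : C.image h0 ⊆ hyp i a := by
    apply (hC.image hh0).2.2 _ hP
    intro w hw
    obtain ⟨z, hz, rfl⟩ := Finset.mem_image.1 hw
    rcases Finset.mem_insert.1 hz with rfl | hz
    · rw [h01']; exact hxP
    · rw [Finset.mem_singleton.1 hz, h02]; exact hyP'
  obtain ⟨h', hh', h1, h2⟩ := ext_lemma h2N hP (card_hyp i a) _ C hC.1 (hC.2.2 _ hP hsub) rfl
    h0 hh0 hC'
  have hx' : h' x = x := by rw [h1 x (hC.2.1 (by simp)), h01']
  have hy' : h' y = y' := by rw [h1 y (hC.2.1 (by simp)), h02]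
  let X : Subgroup (Perm (ι → α)) :=
    { carrier := {g | g ∈ H ∧ ∀ z : ι → α, z i = a ↔ g z i = a}
      mul_mem' := fun {g g'} hg hg' => ⟨H.mul_mem hg.1 hg'.1, fun z => by
        rw [Perm.mul_apply, ← hg.2, ← hg'.2]⟩
      one_mem' := ⟨H.one_mem, fun _ => Iff.rfl⟩
      inv_mem' := fun {g} hg => ⟨H.inv_mem hg.1, fun z => by rw [hg.2 (g⁻¹ z)]; simp⟩ }
  have hX' : h' ∈ X := by
    refine ⟨hh', fun z => ⟨fun hz => ?_, fun hz => ?_⟩⟩
    · rw [← mem_hyp, ← h2]; exact Finset.mem_image_of_mem _ (mem_hyp.2 hz)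
    · rw [← mem_hyp, ← h2] at hz
      obtain ⟨w, hw, e⟩ := Finset.mem_image.1 hz
      rw [← h'.injective e]; exact mem_hyp.1 hw
  obtain ⟨d, hd, -⟩ := exists_new hm a a a a
  obtain ⟨e, he, hed, -⟩ := exists_new hm a d d d
  rcases hI X i a {z | z i = a} (fun _ h => h) (fun g hg z hz => (hg.2 z).1 hz)
    (fun g _ z hz w hw h => by rw [ext_res (hz.trans hw.symm) h])
    (fun l hl τ hτ => ⟨hc.hyp.co_mem l τ hτ, fun z => by rw [co_ne (Ne.symm hl)]⟩)
    (fun π hπ => by
      obtain ⟨τ, hτ, h⟩ := hc.hyp.top' π (fun _ => d) (fun _ => e) (fun _ => hed.symm)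
      refine ⟨τ, hτ, fun z => ?_⟩
      have : π.symm i = i := by rw [Equiv.symm_apply_eq]; exact hπ.symm
      rw [wr_apply, this]
      have ha : τ i a = a := by
        rcases h i with h | h
        · simp [h]
        · rw [h, swap_apply_of_ne_of_ne hd.symm he.symm]
      exact ⟨fun h => by rw [h, ha], fun h => (τ i).injective (h.trans ha.symm)⟩) with hA | hB
  · exfalso
    obtain ⟨π, τ, hπ, hτ, h⟩ := hA h' hX'
    have hs : π.symm i = i := by rw [Equiv.symm_apply_eq]; exact hπ.symm
    have e : ∀ z : ι → α, z i = a → h' z = wr π τ z := fun z hz =>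
      ext_res (by rw [(hX'.2 z).1 hz, wr_apply, hs, hτ, hz]; rfl) (h z hz)
    have hadj : Adj x y := ⟨j, by simpa [x, y] using hab, fun l hl => by simp [y, hl]⟩
    have := adj_wr π τ hadj
    rw [← e x (mem_hyp.1 hxP), ← e y (mem_hyp.1 hyP), hx', hy'] at this
    exact not_adj hjj2 (by simpa [x, y, y', hjj2] using hab) (by simpa [x, y'] using hab) this
  have hF2 := hP.inter h2N (jc_hyp hJ j a)
  have hres : ∀ Y ⊆ hyp i a, (Y.image (res i)).card = Y.card := by
    intro Y hY
    apply Finset.card_image_of_injOn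
    intro z hz w hw e
    exact ext_res ((mem_hyp.1 (hY hz)).trans (mem_hyp.1 (hY hw)).symm) e
  have hL : Fintype.card ({l // l ≠ i} → α) = N := by rw [Fintype.card_fun, card_ne]
  have hF2c : (hyp i a ∩ hyp j a).card = M := by
    rw [← hres _ Finset.inter_subset_left]
    have : (hyp i a ∩ hyp j a).image (res i) = hyp (⟨j, hij.symm⟩ : {l // l ≠ i}) a := by
      ext l
      simp only [Finset.mem_image, Finset.mem_inter, mem_hyp]
      constructor
      · rintro ⟨z, hz, rfl⟩; exact hz.2
      · intro h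
        exact ⟨ins i a l, ⟨by simp, by rw [ins_ne hij.symm]; exact h⟩, by simp⟩
    rw [this, card_hyp, card_ne, hM]; rfl
  have htop : ∀ Y ⊆ hyp i a, Y.card = M → JC H N Y := by
    intro Y hY hYc
    obtain ⟨ψ, hψ, hψ'⟩ := exists_even_image (A := (hyp i a ∩ hyp j a).image (res i))
      (B := Y.image (res i)) (by rw [hres _ hY, hres _ Finset.inter_subset_left, hF2c, hYc])
      (by rw [hres _ Finset.inter_subset_left, hF2c, hL, hNM]; nlinarith)
    obtain ⟨g, hg, h⟩ := hB.2 ψ hψ
    have : (hyp i a ∩ hyp j a).image g = Y := by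
      apply Finset.eq_of_subset_of_card_le
      · intro w hw
        obtain ⟨z, hz, rfl⟩ := Finset.mem_image.1 hw
        have hz' := mem_hyp.1 (Finset.mem_inter.1 hz).1
        have : res i (g z) ∈ Y.image (res i) := by
          rw [h z hz', ← hψ']
          exact Finset.mem_image_of_mem _ (Finset.mem_image_of_mem _ hz)
        obtain ⟨u, hu, e⟩ := Finset.mem_image.1 this
        rwa [← ext_res ((mem_hyp.1 (hY hu)).trans ((hg.2 z).1 hz').symm) e]
      · rw [Finset.card_image_of_injective _ g.injective, hF2c, hYc]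
    rw [← this]; exact hF2.image hg.1
  have hall : ∀ d, ∀ Y ⊆ hyp i a, Y.card + d = M → JC H N Y := by
    intro d
    induction d with
    | zero => intro Y hY h; exact htop Y hY h
    | succ d ih =>
      intro Y hY h
      have : 1 < (hyp i a \ Y).card := by
        rw [Finset.card_sdiff_of_subset hY, card_hyp, ← hN, hNM]
        have : 5 * M ≤ Fintype.card α * M := Nat.mul_le_mul_right _ hm
        omega
      obtain ⟨u, hu, v, hv, huv⟩ := Finset.one_lt_card.1 this
      rw [Finset.mem_sdiff] at hu hv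
      have h1 := ih (insert u Y) (Finset.insert_subset hu.1 hY)
        (by rw [Finset.card_insert_of_notMem hu.2]; omega)
      have h2 := ih (insert v Y) (Finset.insert_subset hv.1 hY)
        (by rw [Finset.card_insert_of_notMem hv.2]; omega)
      convert h1.inter h2N h2 using 1
      ext z
      simp only [Finset.mem_inter, Finset.mem_insert]
      constructor
      · intro h; exact ⟨Or.inr h, Or.inr h⟩
      · rintro ⟨h | h, h' | h'⟩
        · exact absurd (h.symm.trans h') huv
        · exact h'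
        · exact h
        · exact h
  refine multi_of_sub (N := N) (P := hyp i a) ?_ (fun Y hY h => hall (M - Y.card) Y hY (by omega))
  rw [card_hyp, ← hN, hNM]
  have : 5 * M ≤ Fintype.card α * M := Nat.mul_le_mul_right _ hm
  omega

end Cfsg.Agent.H87.PW
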