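import Cfsg.Agent.H87.PWJ

set_option autoImplicit false
open Equiv

namespace Cfsg.Agent.H87.PW

section
variable {ι α : Type} [DecidableEq ι]

/-- the point with `i`-th coordinate `a` and all other coordinates `w` -/
def pt (i : ι) (a w : α) : ι → α := fun l => if l = i then a else w

@[simp] theorem pt_self (i : ι) (a w : α) : pt i a w i = a := by simp [pt]

theorem pt_ne {i j : ι} (h : j ≠ i) (a w : α) : pt i a w j = w := by simp [pt, h]

theorem co_pt (i : ι) (τ : Perm α) (a w : α) : co i τ (pt i a w) = pt i (τ a) w := by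
  funext l
  by_cases h : l = i
  · subst h; simp
  · rw [co_ne h, pt_ne h, pt_ne h]

theorem co_pt' {i j : ι} (hij : j ≠ i) (hall : ∀ l, l ≠ i → l = j) (τ : Perm α) (a w : α) :
    co j τ (pt i a w) = pt i a (τ w) := by
  funext l
  by_cases h : l = i
  · subst h; rw [co_ne hij.symm]; simp
  · rw [hall l h, co_self, pt_ne hij, pt_ne hij]

theorem pt_eta {i j : ι} (hall : ∀ l, l ≠ i → l = j) (x : ι → α) : pt i (x i) (x j) = x := by
  funext l
  by_cases h : l = i
  · subst h; simp
  · rw [pt_ne h, hall l h]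

theorem pt_inj {i j : ι} (hij : j ≠ i) {a w a' w' : α} (h : pt i a w = pt i a' w') :
    a = a' ∧ w = w' :=
  ⟨by simpa using congrFun h i, by simpa [pt_ne hij] using congrFun h j⟩

end

theorem jk2 : JK2Stmt := by
  intro ι α _ _ _ _ H hc hk hJ
  have hm := hc.hm
  have h2N := two_N_lt hc
  have hhyp := jc_hyp hJ
  have hpt := jc_point hc hJ
  have hemp := jc_empty hc hJ
  have hch : ∀ (i : ι) (a : α), (hyp i a).card = Fintype.card α := by
    intro i a; rw [card_hyp, hk]; simp
  rw [hk] at h2N hhyp hpt hemp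
  simp only [Nat.add_one_sub_one, pow_one] at h2N hhyp hpt hemp
  set m := Fintype.card α with hmdef
  obtain ⟨i, j, hij⟩ := Fintype.exists_pair_of_one_lt_card (α := ι) (by omega)
  have hji := hij.symm
  have hall : ∀ l, l ≠ i → l = j := by
    intro l hl
    by_contra h
    have : 2 < Fintype.card ι := Fintype.two_lt_card_iff.2 ⟨i, j, l, hij, hl.symm, Ne.symm h⟩
    omega
  obtain ⟨a, c, hac⟩ := Fintype.exists_pair_of_one_lt_card (α := α) (by omega)
  have himg : ∀ (g : Perm (ι → α)) (Z : Finset (ι → α)), (∀ z ∈ Z, g z ∈ Z) → Z.image g = Z := by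
    intro g Z h
    apply Finset.eq_of_subset_of_card_le
    · intro w hw
      obtain ⟨z, hz, rfl⟩ := Finset.mem_image.1 hw
      exact h z hz
    · rw [Finset.card_image_of_injective _ g.injective]
  suffices key : ∀ t, ∀ X ⊆ hyp i a, X.card = t → t < m → JC H m X from
    multi_of_sub (N := m) (P := hyp i a) (hch i a).ge (fun X hX h => key _ X hX rfl h)
  intro t
  induction t using Nat.strong_induction_on with
  | _ t ih =>
  intro X hX hXc htm
  by_cases ht0 : t = 0
  · rw [Finset.card_eq_zero.1 (hXc.trans ht0)]; exact hemp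
  by_cases ht1 : t = 1
  · obtain ⟨x, rfl⟩ := Finset.card_eq_one.1 (hXc.trans ht1); exact hpt x
  by_contra hnot
  have hsub : ∀ X' ⊆ hyp i a, X'.card < t → JC H m X' :=
    fun X' h h' => ih _ h' X' h rfl (by omega)
  obtain ⟨C, hC⟩ := exists_cl h2N (hhyp i a) hX
  have hCP := hC.2.2 _ (hhyp i a) hX
  have hPC : hyp i a ⊆ C := by
    obtain ⟨y, hyC, hyX⟩ : ∃ y ∈ C, y ∉ X := by
      by_contra h
      push Not at h
      exact hnot (Finset.Subset.antisymm h hC.2.1 ▸ hC.1)
    obtain ⟨x1, hx1, x2, hx2, h12⟩ := Finset.one_lt_card.1 (show 1 < X.card by omega)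
    have hj : ∀ u ∈ hyp i a, ∀ v ∈ hyp i a, u j = v j → u = v := by
      intro u hu v hv e
      rw [← pt_eta hall u, ← pt_eta hall v, mem_hyp.1 hu, mem_hyp.1 hv, e]
    intro y' hy'
    by_cases hy'X : y' ∈ X
    · exact hC.2.1 hy'X
    by_cases hyy : y = y'
    · exact hyy ▸ hyC
    have n1 : ∀ u ∈ X, u j ≠ y j := fun u hu e => hyX (hj u (hX hu) y (hCP hyC) e ▸ hu)
    have n2 : ∀ u ∈ X, u j ≠ y' j := fun u hu e => hy'X (hj u (hX hu) y' hy' e ▸ hu)
    have n3 : y j ≠ y' j := fun e => hyy (hj y (hCP hyC) y' hy' e)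
    have n4 : x1 j ≠ x2 j := fun e => h12 (hj x1 (hX hx1) x2 (hX hx2) e)
    let τ : Perm α := swap (y j) (y' j) * swap (x1 j) (x2 j)
    have hg : co j τ ∈ H := hc.hyp.co_mem j τ (by simp [τ, n3, n4])
    have hXg : X.image (co j τ) = X := by
      apply himg
      intro z hz
      have hmem : ∀ u ∈ X, τ (z j) = u j → co j τ z ∈ X := by
        intro u hu e
        rwa [hj (co j τ z) (by rw [mem_hyp, co_ne hij]; exact mem_hyp.1 (hX hz)) u (hX hu)
          (by simpa using e)]
      by_cases e1 : z j = x1 j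
      · apply hmem x2 hx2
        simp only [τ, Perm.mul_apply, e1, swap_apply_left]
        exact swap_apply_of_ne_of_ne (n1 _ hx2) (n2 _ hx2)
      by_cases e2 : z j = x2 j
      · apply hmem x1 hx1
        simp only [τ, Perm.mul_apply, e2, swap_apply_right]
        exact swap_apply_of_ne_of_ne (n1 _ hx1) (n2 _ hx1)
      · apply hmem z hz
        simp only [τ, Perm.mul_apply, swap_apply_of_ne_of_ne e1 e2]
        exact swap_apply_of_ne_of_ne (n1 _ hz) (n2 _ hz)
    have h1 := (hC.image hg).2.2 C hC.1 (by rw [hXg]; exact hC.2.1)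
    have h2 : co j τ y = y' := by
      apply hj _ (by rw [mem_hyp, co_ne hij]; exact mem_hyp.1 (hCP hyC)) _ hy'
      simp only [co_self, τ, Perm.mul_apply,
        swap_apply_of_ne_of_ne (n1 _ hx1).symm (n1 _ hx2).symm, swap_apply_left]
    exact h2 ▸ h1 (Finset.mem_image_of_mem _ hyC)
  have hstar : ∀ Z : Finset (ι → α), Z.card = t →
      ∃ B, JC H m B ∧ Z ⊆ B ∧ B.card = m ∧ ∀ F, JC H m F → Z ⊆ F → F = B := by
    intro Z hZ
    obtain ⟨g, hg, rfl⟩ := set_of_sub hsub hX hXc hZ
    have h1 := hC.image hg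
    have h2 : (C.image g).card = m := by
      rw [Finset.card_image_of_injective _ g.injective, Finset.Subset.antisymm hCP hPC, hch]
    exact ⟨_, h1.1, h1.2.1, h2, fun F hF hZF =>
      (Finset.eq_of_subset_of_card_le (h1.2.2 F hF hZF) (h2 ▸ hF.1)).symm⟩
  have heq : ∀ B F, JC H m B → JC H m F → ∀ Z, Z ⊆ B → Z ⊆ F → t ≤ Z.card → B = F := by
    intro B F hB hF Z h1 h2 h3
    obtain ⟨Z', hZ', hc'⟩ := Finset.exists_subset_card_eq h3
    obtain ⟨B0, -, -, -, h⟩ := hstar Z' hc'
    rw [h B hB (hZ'.trans h1), h F hF (hZ'.trans h2)]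
  have hinv : ∀ Z B, JC H m B → Z ⊆ B → Z.card = t → ∀ g ∈ H, (∀ z ∈ Z, g z ∈ Z) →
      ∀ z ∈ B, g z ∈ B := by
    intro Z B hB hZB hZ g hg h z hz
    have := heq _ _ (hB.image hg) hB Z (by
      rw [← himg g Z h]; exact Finset.image_subset_image hZB) hZB hZ.ge
    rw [← this]; exact Finset.mem_image_of_mem _ hz
  by_cases ht2 : t = 2
  · subst ht2
    have hne : pt i a a ≠ pt i c c := fun e => hac (pt_inj hji e).1
    obtain ⟨B, hB, hZB, hBc, -⟩ := hstar {pt i a a, pt i c c} (Finset.card_pair hne)
    have hline : ∀ (l : ι) (u v : ι → α), u ∈ B → v ∈ B → u l = v l → u = v := by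
      intro l u v hu hv e
      by_contra huv
      have := heq B _ hB (hhyp l (u l)) {u, v} (by
        intro z hz; rcases Finset.mem_insert.1 hz with rfl | hz
        · exact hu
        · rw [Finset.mem_singleton.1 hz]; exact hv) (by
        intro z hz; rcases Finset.mem_insert.1 hz with rfl | hz
        · simp
        · rw [Finset.mem_singleton.1 hz]; simp [e]) (Finset.card_pair huv).ge
      have h1 := hZB (Finset.mem_insert_self _ _)
      have h2 := hZB (Finset.mem_insert_of_mem (Finset.mem_singleton_self _))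
      rw [this, mem_hyp] at h1 h2
      have h3 := h1.trans h2.symm
      by_cases hl : l = i
      · subst hl; exact hac (by simpa using h3)
      · exact hac (by simpa [pt_ne hl] using h3)
    obtain ⟨z, hz, hz'⟩ := Finset.exists_mem_notMem_of_card_lt_card
      (s := {pt i a a, pt i c c}) (t := B) (by rw [Finset.card_pair hne]; omega)
    simp only [Finset.mem_insert, Finset.mem_singleton, not_or] at hz'
    have d1 : z i ≠ a := fun e => hz'.1 (hline i _ _ hz (hZB (by simp)) (by simp [e]))
    have d2 : z i ≠ c := fun e => hz'.2 (hline i _ _ hz (hZB (by simp)) (by simp [e]))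
    obtain ⟨d', e1, e2, e3, -⟩ := exists_new hm a c (z i) (z i)
    obtain ⟨τ, hτ, t1, t2, t3⟩ := exists_even3 hm hac d1.symm d2.symm hac e1.symm e2.symm
    have := hinv _ B hB hZB (Finset.card_pair hne) _ (hc.hyp.co_mem i τ hτ) (by
      intro u hu
      simp only [Finset.mem_insert, Finset.mem_singleton] at hu ⊢
      rcases hu with rfl | rfl
      · left; rw [co_pt, t1]
      · right; rw [co_pt, t2]) z hz
    have h4 := congrFun (hline j _ _ this hz (co_ne hji _ _)) i
    rw [co_self, t3] at h4
    exact e3 h4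
  have ht3 : 3 ≤ t := by omega
  have hia : ∀ b : α, Function.Injective (pt i b : α → ι → α) := fun b u v e => (pt_inj hji e).2
  have shape : ∀ (Y : Finset α) (y : α), Y.card = t - 1 → y ∈ Y → ∃ B, JC H m B ∧
      (∀ w, pt i a w ∈ B ↔ w ∈ Y) ∧ (∀ w ∈ Y, pt i c w ∈ B) ∧ m + 2 = 2 * t := by
    intro Y y hY hy
    have hn : pt i c y ∉ Y.image (pt i a) := by
      intro h
      obtain ⟨w, -, e⟩ := Finset.mem_image.1 h
      exact hac (pt_inj hji e).1
    have hZc : (insert (pt i c y) (Y.image (pt i a))).card = t := by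
      rw [Finset.card_insert_of_notMem hn, Finset.card_image_of_injective _ (hia a)]; omega
    obtain ⟨B, hB, hZB, hBc, -⟩ := hstar _ hZc
    have hcy : pt i c y ∈ B := hZB (Finset.mem_insert_self _ _)
    have h1 : ∀ w, pt i a w ∈ B ↔ w ∈ Y := by
      intro w
      refine ⟨fun h => ?_, fun h => hZB (Finset.mem_insert_of_mem (Finset.mem_image_of_mem _ h))⟩
      by_contra hw
      have := heq B _ hB (hhyp i a) ((insert w Y).image (pt i a)) (by
        intro z hz
        obtain ⟨u, hu, rfl⟩ := Finset.mem_image.1 hz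
        rcases Finset.mem_insert.1 hu with rfl | hu
        · exact h
        · exact hZB (Finset.mem_insert_of_mem (Finset.mem_image_of_mem _ hu))) (by
        intro z hz
        obtain ⟨u, -, rfl⟩ := Finset.mem_image.1 hz
        simp) (by
        rw [Finset.card_image_of_injective _ (hia a), Finset.card_insert_of_notMem hw]; omega)
      rw [this, mem_hyp, pt_self] at hcy
      exact hac hcy.symm
    have h2 : ∀ z ∈ B, z i = a ∨ z i = c := by
      intro z hz
      by_contra hh
      rw [not_or] at hh
      have hsub2 : insert (pt i c y) (Y.image (pt i a)) ∪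
          (({a, c} : Finset α)ᶜ).image (fun d => pt i d (z j)) ⊆ B := by
        apply Finset.union_subset hZB
        intro u hu
        obtain ⟨d, hd, rfl⟩ := Finset.mem_image.1 hu
        simp only [Finset.mem_compl, Finset.mem_insert, Finset.mem_singleton, not_or] at hd
        obtain ⟨τ, hτ, t1, t2, t3⟩ := exists_even3 hm hac (Ne.symm hh.1) (Ne.symm hh.2) hac
          (Ne.symm hd.1) (Ne.symm hd.2)
        have := hinv _ B hB hZB hZc _ (hc.hyp.co_mem i τ hτ) (by
          intro u hu
          rcases Finset.mem_insert.1 hu with rfl | hu'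
          · rw [co_pt, t2]; exact hu
          · obtain ⟨w, -, rfl⟩ := Finset.mem_image.1 hu'
            rw [co_pt, t1]; exact hu) z hz
        rwa [← pt_eta hall z, co_pt, t3] at this
      have h3 := Finset.card_le_card hsub2
      rw [Finset.card_union_of_disjoint, hZc, hBc, Finset.card_image_of_injective _
        (fun u v e => (pt_inj hji e).1), Finset.card_compl, Finset.card_pair hac] at h3
      · omega
      · rw [Finset.disjoint_right]
        intro u hu hu'
        obtain ⟨d, hd, rfl⟩ := Finset.mem_image.1 hu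
        simp only [Finset.mem_compl, Finset.mem_insert, Finset.mem_singleton, not_or] at hd
        rcases Finset.mem_insert.1 hu' with e | hu'
        · exact hd.2 (pt_inj hji e).1
        · obtain ⟨w, -, e⟩ := Finset.mem_image.1 hu'
          exact hd.1 (pt_inj hji e).1.symm
    let D : Finset α := Finset.univ.filter (fun w => pt i c w ∈ B)
    have hD : ∀ w, w ∈ D ↔ pt i c w ∈ B := by simp [D]
    have hDc : D.card + t = m + 1 := by
      have : B = Y.image (pt i a) ∪ D.image (pt i c) := by
        ext z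
        simp only [Finset.mem_union, Finset.mem_image]
        constructor
        · intro hz
          have e := pt_eta hall z
          rcases h2 z hz with h | h
          · rw [h] at e; exact Or.inl ⟨z j, (h1 _).1 (e.symm ▸ hz), e⟩
          · rw [h] at e; exact Or.inr ⟨z j, (hD _).2 (e.symm ▸ hz), e⟩
        · rintro (⟨w, hw, rfl⟩ | ⟨w, hw, rfl⟩)
          · exact (h1 w).2 hw
          · exact (hD w).1 hw
      have h3 := congrArg Finset.card this
      rw [Finset.card_union_of_disjoint, Finset.card_image_of_injective _ (hia a),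
        Finset.card_image_of_injective _ (hia c), hBc] at h3
      · omega
      · rw [Finset.disjoint_left]
        intro u hu hu'
        obtain ⟨w, -, rfl⟩ := Finset.mem_image.1 hu
        obtain ⟨w', -, e⟩ := Finset.mem_image.1 hu'
        exact hac (pt_inj hji e).1.symm
    have hmove : ∀ τ : Perm α, Perm.sign τ = 1 → τ y = y → (∀ w ∈ Y, τ w ∈ Y) →
        ∀ w ∈ D, τ w ∈ D := by
      intro τ hτ t1 t2 w hw
      have := hinv _ B hB hZB hZc _ (hc.hyp.co_mem j τ hτ) (by
        intro u hu
        rcases Finset.mem_insert.1 hu with rfl | hu'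
        · rw [co_pt' hji hall, t1]; exact hu
        · obtain ⟨w, hw, rfl⟩ := Finset.mem_image.1 hu'
          rw [co_pt' hji hall]
          exact Finset.mem_insert_of_mem (Finset.mem_image_of_mem _ (t2 w hw))) _ ((hD w).1 hw)
      rw [co_pt' hji hall] at this
      exact (hD _).2 this
    have hEc : Yᶜ.card + t = m + 1 := by
      rw [Finset.card_compl]; have := Finset.card_le_univ Y; omega
    have hswap : ∀ (u v : α), (u ∈ Y ↔ v ∈ Y) → ∀ w ∈ Y, swap u v w ∈ Y := by
      intro u v h w hw
      by_cases e1 : w = u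
      · subst e1; rw [swap_apply_left]; exact h.1 hw
      by_cases e2 : w = v
      · subst e2; rw [swap_apply_right]; exact h.2 hw
      · rwa [swap_apply_of_ne_of_ne e1 e2]
    have nY : ∀ {u v : α}, u ∈ Y → v ∉ Y → u ≠ v := fun hu hv e => hv (e ▸ hu)
    have h3 : D ⊆ Y := by
      intro w hw
      by_contra hwY
      have hsub2 : insert y Yᶜ ⊆ D := by
        apply Finset.insert_subset ((hD y).2 hcy)
        intro w' hw'
        rw [Finset.mem_compl] at hw'
        by_cases e : w = w'
        · exact e ▸ hw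
        have ny : ∀ u, u ∉ Y → y ≠ u := fun u hu e => hu (e ▸ hy)
        by_cases h4 : 4 ≤ t
        · obtain ⟨u, hu, v, hv, huv⟩ := Finset.one_lt_card.1
            (show 1 < (Y.erase y).card by rw [Finset.card_erase_of_mem hy]; omega)
          rw [Finset.mem_erase] at hu hv
          have := hmove (swap w w' * swap u v) (by simp [e, huv]) (by
            rw [Perm.mul_apply, swap_apply_of_ne_of_ne hu.1.symm hv.1.symm,
              swap_apply_of_ne_of_ne (ny _ hwY) (ny _ hw')]) (fun z hz =>
            hswap w w' (by simp [hwY, hw']) _ (hswap u v (by simp [hu.2, hv.2]) z hz)) w hw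
          rwa [Perm.mul_apply, swap_apply_of_ne_of_ne (nY hu.2 hwY).symm
            (nY hv.2 hwY).symm, swap_apply_left] at this
        · obtain ⟨u, hu, hu'⟩ := Finset.exists_mem_notMem_of_card_lt_card
            (s := {w, w'}) (t := Yᶜ) (by rw [Finset.card_pair e]; omega)
          simp only [Finset.mem_insert, Finset.mem_singleton, not_or, Finset.mem_compl] at hu hu'
          have := hmove (c3 w w' u) (c3_sign e (Ne.symm hu'.1))
            (c3_of_ne (ny _ hwY) (ny _ hw') (ny _ hu)) (fun z hz => by
              rwa [c3_of_ne (nY hz hwY) (nY hz hw') (nY hz hu)]) w hw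
          rwa [c3_1 e (Ne.symm hu'.2)] at this
      have := Finset.card_le_card hsub2
      rw [Finset.card_insert_of_notMem (by simpa using hy)] at this
      omega
    have h4 : Y ⊆ D := by
      obtain ⟨w, hw, hwy⟩ := Finset.exists_mem_ne (s := D) (by omega) y
      obtain ⟨u, hu, v, hv, huv⟩ := Finset.one_lt_card.1 (show 1 < Yᶜ.card by omega)
      rw [Finset.mem_compl] at hu hv
      intro w' hw'
      by_cases e : w' = y
      · rw [e]; exact (hD y).2 hcy
      by_cases e' : w = w'
      · exact e' ▸ hw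
      have := hmove (swap w w' * swap u v) (by simp [e', huv]) (by
        rw [Perm.mul_apply, swap_apply_of_ne_of_ne (nY hy hu) (nY hy hv),
          swap_apply_of_ne_of_ne hwy.symm (Ne.symm e)]) (fun z hz =>
        hswap w w' (by simp [h3 hw, hw']) _ (hswap u v (by simp [hu, hv]) z hz)) w hw
      rwa [Perm.mul_apply, swap_apply_of_ne_of_ne (nY (h3 hw) hu) (nY (h3 hw) hv),
        swap_apply_left] at this
    have h5 := congrArg Finset.card (Finset.Subset.antisymm h3 h4)
    exact ⟨B, hB, h1, fun w hw => (hD w).1 (h4 hw), by omega⟩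
  obtain ⟨Y, -, hY⟩ := Finset.exists_subset_card_eq (s := (Finset.univ : Finset α)) (n := t - 1)
    (by rw [Finset.card_univ]; omega)
  obtain ⟨y, hy, w, hw, hyw⟩ := Finset.one_lt_card.1 (show 1 < Y.card by omega)
  obtain ⟨w', -, hw'⟩ := Finset.exists_mem_notMem_of_card_lt_card (s := Y) (t := Finset.univ)
    (by rw [Finset.card_univ]; omega)
  have hn : w' ∉ Y.erase w := fun h => hw' (Finset.mem_of_mem_erase h)
  obtain ⟨B, hB, b1, b2, b3⟩ := shape Y y hY hy
  obtain ⟨B', hB', b1', b2', -⟩ := shape (insert w' (Y.erase w)) y (by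
    rw [Finset.card_insert_of_notMem hn, Finset.card_erase_of_mem hw]; omega)
    (Finset.mem_insert_of_mem (Finset.mem_erase.2 ⟨hyw, hy⟩))
  have := heq B B' hB hB' ((Y.erase w).image (pt i a) ∪ (Y.erase w).image (pt i c)) (by
    intro z hz
    rcases Finset.mem_union.1 hz with hz | hz <;> obtain ⟨u, hu, rfl⟩ := Finset.mem_image.1 hz
    · exact (b1 u).2 (Finset.mem_of_mem_erase hu)
    · exact b2 u (Finset.mem_of_mem_erase hu)) (by
    intro z hz
    rcases Finset.mem_union.1 hz with hz | hz <;> obtain ⟨u, hu, rfl⟩ := Finset.mem_image.1 hz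
    · exact (b1' u).2 (Finset.mem_insert_of_mem hu)
    · exact b2' u (Finset.mem_insert_of_mem hu)) (by
    rw [Finset.card_union_of_disjoint, Finset.card_image_of_injective _ (hia a),
      Finset.card_image_of_injective _ (hia c), Finset.card_erase_of_mem hw]
    · omega
    · rw [Finset.disjoint_left]
      intro u hu hu'
      obtain ⟨w, -, rfl⟩ := Finset.mem_image.1 hu
      obtain ⟨w', -, e⟩ := Finset.mem_image.1 hu'
      exact hac (pt_inj hji e).1.symm)
  have h6 := (b1' w).1 (this ▸ (b1 w).2 hw)
  rcases Finset.mem_insert.1 h6 with e | e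
  · exact hw' (e ▸ hw)
  · exact (Finset.mem_erase.1 e).1 rfl

end Cfsg.Agent.H87.PW
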