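import Cfsg.Agent.H87.PWA

set_option autoImplicit false
open Equiv

namespace Cfsg.Agent.H87.PW

theorem main (hr : RStmt) (hdich : DichStmt) (hind : IndStmt) (hj2 : JK2Stmt) (hj3 : JK3Stmt)
    (hb : BochStmt) (hmil : MillStmt) (hM : MStmt) (h7 : C7Stmt) (hel : ELStmt) (h56 : C56Stmt)
    (hfr : FrameStmt) (k : ℕ) : PStmt k := by
  induction k using Nat.strong_induction_on with
  | _ k ih =>
  intro ι α _ _ _ _ hk hm H hH
  by_cases h1 : k ≤ 1
  · have : Subsingleton ι := Fintype.card_le_one_iff_subsingleton.1 (by omega)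
    exact Or.inl fun g _ => inW_of_subsingleton g
  by_cases hbig : alternatingGroup (ι → α) ≤ H
  · exact Or.inr hbig
  left
  have hc : Ctx H := ⟨hm, by omega, hH, hbig⟩
  have hI : IndW ι α := hind ι α hm (ih _ (by omega))
  have hcard : Fintype.card (ι → α) = Fintype.card α ^ k := by rw [Fintype.card_fun, hk]
  rcases hdich ι α H hc with hJ | hS
  · exfalso
    have htr : MulAction.IsMultiplyPretransitive H (ι → α)
        (if k = 2 then Fintype.card α else Fintype.card α ^ (k - 2) + 1) := by
      split_ifs with h2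
      · exact hj2 ι α H hc (hk.trans h2) hJ
      · have := hj3 ι α H hc (by omega) hI hJ
        rwa [hk] at this
    by_cases h6 : Fintype.card α ≤ 6
    · exact hbig (hmil _ H _ k (by omega) (by omega) hcard htr)
    · have hpow : Fintype.card α ^ k = Fintype.card α * Fintype.card α ^ (k - 1) := by
        rw [← pow_succ']; congr 1; omega
      have hN : Fintype.card α ≤ Fintype.card α ^ (k - 1) :=
        Nat.le_self_pow (by omega) _
      have h4 : MulAction.IsMultiplyPretransitive H (ι → α) 4 := by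
        refine MulAction.isMultiplyPretransitive_of_le (n := if k = 2 then Fintype.card α
          else Fintype.card α ^ (k - 2) + 1) ?_ ?_
        · split_ifs with h2
          · omega
          · have : Fintype.card α ≤ Fintype.card α ^ (k - 2) := Nat.le_self_pow (by omega) _
            omega
        · rw [Nat.card_eq_fintype_card, hcard, hpow]
          split_ifs with h2
          · nlinarith
          · have : Fintype.card α ^ (k - 2) ≤ Fintype.card α ^ (k - 1) :=
              Nat.pow_le_pow_right (by omega) (by omega)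
            nlinarith
      haveI : Nonempty α := Fintype.card_pos_iff.1 (by omega)
      obtain ⟨i⟩ : Nonempty ι := Fintype.card_pos_iff.1 (by omega)
      let p : α := Classical.arbitrary α
      obtain ⟨q, hq, -⟩ := exists_new hm p p p p
      obtain ⟨r, hr1, hr2, -⟩ := exists_new hm p q q q
      have h3 := c3_isThreeCycle hq.symm hr1.symm hr2.symm
      have hne : co i (c3 p q r) ≠ 1 := by
        intro e
        rw [← co_one i] at e
        exact h3.ne_one (co_inj i e)
      have := hb _ H h4 hbig (by rw [hcard, hpow]; nlinarith) _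
        (hH.co_mem i _ (c3_sign hq.symm hr1.symm)) hne
      rw [card_support_co, h3.card_support, hcard, hpow, hk] at this
      nlinarith
  · have hMW := hM ι α H hc hI (t0 ι α H hc) hS
    apply hfr ι α H hc
    by_cases h6 : Fintype.card α ≤ 6
    · exact h56 ι α H hc hI hMW (hel ι α H hc h6 hS (hr ι α H hc))
    · exact h7 ι α H hc (by omega) hS hMW

section glue
variable {ι α : Type} [Fintype ι] [DecidableEq ι] [Fintype α] [DecidableEq α]

theorem sign_co_even (i : ι) (τ : Perm α) (h : Perm.sign τ = 1) : Perm.sign (co i τ) = 1 := by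
  have h1 : τ ∈ Subgroup.closure {σ : Perm α | σ.IsThreeCycle} := by
    rw [Perm.closure_three_cycles_eq_alternating]; exact Perm.mem_alternatingGroup.2 h
  induction h1 using Subgroup.closure_induction with
  | mem σ hσ =>
    have h3 : co i σ ^ 3 = 1 := by
      rw [← co_pow, ← hσ.orderOf, pow_orderOf_eq_one, co_one]
    have := congrArg Perm.sign h3
    rw [map_pow, map_one] at this
    rcases Int.units_eq_one_or (Perm.sign (co i σ)) with e | e
    · exact e
    · rw [e] at this; exact absurd this (by decide)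
  | one => simp
  | mul a b ha hb iha ihb =>
    rw [Perm.closure_three_cycles_eq_alternating] at ha hb
    rw [co_mul, map_mul, iha ha, ihb hb, one_mul]
  | inv a ha iha =>
    rw [Perm.closure_three_cycles_eq_alternating] at ha
    rw [co_inv, map_inv, iha ha, inv_one]

theorem sign_invol {β : Type} [Fintype β] [DecidableEq β] (σ : Perm β) (h : σ ^ 2 = 1) :
    Perm.sign σ = (-1) ^ (σ.support.card / 2) := by
  rw [Perm.sign_of_pow_two_eq_one h]
  congr 2
  have : Fintype.card (Function.fixedPoints σ) = σ.supportᶜ.card := by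
    rw [Fintype.card_subtype]
    congr 1; ext x; simp; rfl
  rw [this, Finset.card_compl]
  have := Finset.card_le_univ σ.support
  omega

theorem sign_co_swap (i : ι) {a b : α} (hab : a ≠ b) (hodd : Odd (Fintype.card α)) :
    Perm.sign (co i (swap a b)) = -1 := by
  rw [sign_invol _ (by rw [← co_pow, pow_two, swap_mul_self, co_one]), card_support_co,
    Perm.card_support_swap hab, Nat.mul_div_cancel_left _ (by norm_num)]
  exact Odd.neg_one_pow hodd.pow

theorem sign_wr_swap {i j : ι} (hij : i ≠ j) (h4 : 4 ∣ Fintype.card α ^ (Fintype.card ι - 1)) :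
    Perm.sign (wr (swap i j) (fun _ => (1 : Perm α))) = 1 := by
  have hk : 1 ≤ Fintype.card ι := Fintype.card_pos_iff.2 ⟨i⟩
  rw [sign_invol _ (by rw [pow_two, wr_mul, swap_mul_self]; simp [wr_one])]
  have h1 : (wr (swap i j) (fun _ => (1 : Perm α))).supportᶜ.card =
      Fintype.card α ^ (Fintype.card ι - 1) := by
    rw [← card_ne i, ← Fintype.card_fun, ← Finset.card_univ]
    have hfix : ∀ x : ι → α, x ∈ (wr (swap i j) (fun _ => (1 : Perm α))).supportᶜ ↔ x i = x j := by
      intro x
      rw [Finset.mem_compl, Perm.notMem_support]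
      constructor
      · intro h; simpa using congrFun h j
      · intro h
        funext l
        simp only [wr_apply, symm_swap, Perm.coe_one, id]
        by_cases e : l = i
        · subst e; simp [h]
        · by_cases e' : l = j
          · subst e'; simp [h]
          · rw [swap_apply_of_ne_of_ne e e']
    apply Finset.card_bij (fun x _ => res i x)
    · simp
    · intro x hx y hy e
      refine ext_res ?_ e
      rw [(hfix x).1 hx, (hfix y).1 hy]
      exact (res_eq_iff i x y).1 e j hij.symm
    · intro l _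
      refine ⟨ins i (l ⟨j, hij.symm⟩) l, (hfix _).2 ?_, by simp⟩
      rw [ins_self, ins_ne hij.symm]
  have h2 := Finset.card_add_card_compl (wr (swap i j) (fun _ => (1 : Perm α))).support
  rw [h1, Fintype.card_fun] at h2
  have h3 : 4 ∣ Fintype.card α ^ Fintype.card ι :=
    h4.trans (pow_dvd_pow _ (by omega))
  apply Even.neg_one_pow
  rw [Nat.even_iff]
  omega

theorem top_even (hm : 5 ≤ Fintype.card α)
    (h : Odd (Fintype.card α) ∨ 4 ∣ Fintype.card α ^ (Fintype.card ι - 1)) (π : Perm ι) :
    ∃ τ : ι → Perm α, Perm.sign (wr π τ) = 1 := by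
  induction π using Perm.swap_induction_on with
  | one => exact ⟨fun _ => 1, by rw [wr_one, map_one]⟩
  | swap_mul π i j hij ih =>
    obtain ⟨τ, hτ⟩ := ih
    have : ∃ σ : ι → Perm α, Perm.sign (wr (swap i j) σ) = 1 := by
      rcases h with h | h
      · rcases Int.units_eq_one_or (Perm.sign (wr (swap i j) (fun _ => (1 : Perm α)))) with e | e
        · exact ⟨_, e⟩
        · haveI : Nonempty α := Fintype.card_pos_iff.1 (by omega)
          let p : α := Classical.arbitrary α
          obtain ⟨q, hq, -⟩ := exists_new hm p p p p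
          have h1 : Perm.sign (co i (swap q p) * wr (swap i j) (fun _ => (1 : Perm α))) = 1 := by
            rw [map_mul, e, sign_co_swap i hq h]; simp
          rw [co, wr_mul, one_mul] at h1
          exact ⟨_, h1⟩
      · exact ⟨_, sign_wr_swap hij h⟩
    obtain ⟨σ, hσ⟩ := this
    have h1 : Perm.sign (wr (swap i j) σ * wr π τ) = 1 := by rw [map_mul, hσ, hτ, one_mul]
    rw [wr_mul] at h1
    exact ⟨_, h1⟩

theorem exists_even_notW (hm : 5 ≤ Fintype.card α) (hk : 2 ≤ Fintype.card ι) :
    ∃ σ : Perm (ι → α), Perm.sign σ = 1 ∧ ¬ InW σ := by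
  haveI : Nonempty α := Fintype.card_pos_iff.1 (by omega)
  obtain ⟨i, j, hij⟩ := Fintype.exists_pair_of_one_lt_card (α := ι) (by omega)
  let p : α := Classical.arbitrary α
  obtain ⟨q, hq, -⟩ := exists_new hm p p p p
  obtain ⟨r, hr1, hr2, -⟩ := exists_new hm p q q q
  let x0 : ι → α := fun _ => p
  let x1 : ι → α := Function.update x0 i q
  let y : ι → α := fun _ => q
  let z : ι → α := fun _ => r
  have h1 : x1 ≠ y := fun e => hq (by simpa [x1, x0, y, hij.symm] using (congrFun e j).symm)
  have h2 : x1 ≠ z := fun e => hr1 (by simpa [x1, x0, z, hij.symm] using (congrFun e j).symm)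
  have h3 : y ≠ z := fun e => hr2 (congrFun e j).symm
  refine ⟨c3 x1 y z, c3_sign h1 h2, ?_⟩
  rintro ⟨π, τ, e⟩
  have hadj : Adj x0 x1 := ⟨i, by simpa [x1, x0] using hq.symm, fun l hl => by simp [x1, hl]⟩
  have := adj_wr π τ hadj
  rw [← e, c3_1 h1 h3, c3_of_ne] at this
  · exact not_adj hij hq.symm hq.symm this
  · intro e; exact hq (by simpa [x1, x0] using (congrFun e i).symm)
  · intro e; exact hq (congrFun e i).symm
  · intro e; exact hr1 (congrFun e i).symm

omit [Fintype ι] [DecidableEq ι] [Fintype α] [DecidableEq α] in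
theorem inW_iff (σ : Perm (ι → α)) : InW σ ↔ ∃ (π : Perm ι) (τ : ι → Perm α),
    ∀ (f : ι → α) (i : ι), σ f i = τ i (f (π.symm i)) :=
  ⟨fun ⟨π, τ, e⟩ => ⟨π, τ, fun f i => by rw [e]; rfl⟩,
    fun ⟨π, τ, e⟩ => ⟨π, τ, by ext f i; exact e f i⟩⟩

end glue

theorem final (hP : ∀ k, PStmt k) (m k : ℕ) (hm : 5 ≤ m) (hk : 2 ≤ k) :
    (¬ (k = 2 ∧ m % 4 = 2) → ∃ M : Subgroup ↥(alternatingGroup (Fin k → Fin m)), IsCoatom M ∧ ∀ σ : ↥(alternatingGroup (Fin k → Fin m)), σ ∈ M ↔ ∃ (π : Equiv.Perm (Fin k)) (τ : Fin k → Equiv.Perm (Fin m)), ∀ (f : Fin k → Fin m) (i : Fin k), (σ : Equiv.Perm (Fin k → Fin m)) f i = τ i (f (π.symm i))) ∧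
    ((∃ σ : Equiv.Perm (Fin k → Fin m), Equiv.Perm.sign σ = -1 ∧ ∃ (π : Equiv.Perm (Fin k)) (τ : Fin k → Equiv.Perm (Fin m)), ∀ (f : Fin k → Fin m) (i : Fin k), σ f i = τ i (f (π.symm i))) →
      ∃ M : Subgroup (Equiv.Perm (Fin k → Fin m)), IsCoatom M ∧ ∀ σ, σ ∈ M ↔ ∃ (π : Equiv.Perm (Fin k)) (τ : Fin k → Equiv.Perm (Fin m)), ∀ (f : Fin k → Fin m) (i : Fin k), σ f i = τ i (f (π.symm i))) := by
  have hm' : 5 ≤ Fintype.card (Fin m) := by simpa using hm
  have hk' : 2 ≤ Fintype.card (Fin k) := by simpa using hk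
  obtain ⟨σ0, hσ0, hσ0'⟩ := exists_even_notW hm' hk'
  constructor
  · intro hex
    refine ⟨(W (Fin k) (Fin m)).subgroupOf _, ⟨?_, ?_⟩, fun σ => ?_⟩
    · intro e
      have : (⟨σ0, Perm.mem_alternatingGroup.2 hσ0⟩ : alternatingGroup _) ∈
          (W (Fin k) (Fin m)).subgroupOf _ := by rw [e]; trivial
      exact hσ0' this
    · intro K hK
      have hpar : Odd (Fintype.card (Fin m)) ∨
          4 ∣ Fintype.card (Fin m) ^ (Fintype.card (Fin k) - 1) := by
        rw [Fintype.card_fin, Fintype.card_fin]
        rcases Nat.even_or_odd m with he | ho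
        · right
          by_cases h2 : k = 2
          · subst h2
            rw [Nat.even_iff] at he
            simp only [true_and] at hex
            norm_num; omega
          · obtain ⟨c, rfl⟩ := he
            exact Dvd.dvd.trans ⟨c * c, by ring⟩ (pow_dvd_pow (c + c) (show 2 ≤ k - 1 by omega))
        · exact Or.inl ho
      have hH : Hyp (K.map (alternatingGroup (Fin k → Fin m)).subtype) :=
        ⟨fun i τ h => ⟨⟨co i τ, Perm.mem_alternatingGroup.2 (sign_co_even i τ h)⟩,
          hK.le (co_mem_W i τ), rfl⟩, fun π => by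
          obtain ⟨τ, h⟩ := top_even hm' hpar π
          exact ⟨τ, ⟨wr π τ, Perm.mem_alternatingGroup.2 h⟩, hK.le (wr_mem_W π τ), rfl⟩⟩
      rcases hP k (Fin k) (Fin m) (by simp) hm' _ hH with h | h
      · exact absurd (fun σ hσ => h _ ⟨σ, hσ, rfl⟩) hK.not_ge
      · rw [eq_top_iff]
        intro σ _
        obtain ⟨σ', h1, h2⟩ := h σ.2
        have : σ' = σ := Subtype.ext h2
        exact this ▸ h1
    · rw [← inW_iff]; rfl
  · rintro ⟨ρ, hρ, hρW⟩
    rw [← inW_iff] at hρW
    refine ⟨W (Fin k) (Fin m), ⟨?_, ?_⟩, fun σ => ?_⟩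
    · intro e
      have : σ0 ∈ W (Fin k) (Fin m) := by rw [e]; trivial
      exact hσ0' this
    · intro K hK
      have hH : Hyp K := ⟨fun i τ _ => hK.le (co_mem_W i τ),
        fun π => ⟨fun _ => 1, hK.le (wr_mem_W π _)⟩⟩
      rcases hP k (Fin k) (Fin m) (by simp) hm' _ hH with h | h
      · exact absurd (fun σ hσ => h _ hσ) hK.not_ge
      · rw [eq_top_iff]
        intro σ _
        rcases Int.units_eq_one_or (Perm.sign σ) with e | e
        · exact h (Perm.mem_alternatingGroup.2 e)
        · have h1 : σ * ρ⁻¹ ∈ K := h (Perm.mem_alternatingGroup.2 (by simp [e, hρ]))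
          have := K.mul_mem h1 (hK.le hρW)
          simpa using this
    · rw [← inW_iff]; rfl

end Cfsg.Agent.H87.PW
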