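import Cfsg.Agent.H42.PcDefs
import Cfsg.Agent.Lead.PcDefs
import Cfsg.Agent.H76.PcSyl
import Cfsg.Agent.H80.PcUni
import Cfsg.Agent.H32.PcOrb
import Cfsg.Agent.H96.PlOrd

/-! Project PL: no fusion in a coset of `2`-elements, from the counting pieces. -/

set_option autoImplicit false

namespace Cfsg.Agent.H87.PlNf

open Subgroup Cfsg.Agent.H42.Pc

universe u

theorem cop {n : ℕ} (h : Odd n) (k : ℕ) : (2 ^ k).Coprime n :=
  Nat.Coprime.pow_left _ (Nat.coprime_two_left.2 h)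

theorem cnt {G : Type u} [Group G] [Finite G] (S : Subgroup G) [hS : S.Normal] (y : G) (l : ℕ)
    (hy : Two y) (h : ∀ y', y⁻¹ * y' ∈ S → Two y' → lo S y' = l) :
    Nat.card {y' : G // y⁻¹ * y' ∈ S ∧ Two y'} * l = Nat.card S := by
  classical
  have := Fintype.ofFinite {y' : G // y⁻¹ * y' ∈ S ∧ Two y'}
  let f : (Σ z : {y' : G // y⁻¹ * y' ∈ S ∧ Two y'},
      {g : G // g ∈ S ∧ Commute g z.1 ∧ Odd (orderOf g)}) → S :=
    fun q => ⟨y⁻¹ * q.1.1 * q.2.1, mul_mem q.1.2.1 q.2.2.1⟩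
  rw [← Nat.card_eq_of_bijective f ⟨?_, ?_⟩, Nat.card_sigma,
    Finset.sum_congr rfl fun z _ => h z.1 z.2.1 z.2.2, Finset.sum_const, Finset.card_univ,
    Nat.card_eq_fintype_card, smul_eq_mul]
  · rintro ⟨⟨z, hz, a, ha⟩, o, ho, co, oo⟩ ⟨⟨z', hz', a', ha'⟩, o', ho', co', oo'⟩ e
    have e1 : z * o = z' * o' := by
      have := congrArg Subtype.val e
      simpa [f, mul_assoc] using this
    have e2 : o ^ 2 ^ (a + a') = o' ^ 2 ^ (a + a') := by
      have : (z * o) ^ 2 ^ (a + a') = (z' * o') ^ 2 ^ (a + a') := by rw [e1]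
      rw [co.symm.mul_pow, co'.symm.mul_pow, pow_add, pow_mul z, ha, one_pow, mul_comm (2 ^ a),
        pow_mul z', ha', one_pow, one_mul, one_mul] at this
      rw [pow_add, mul_comm (2 ^ a)]
      exact this
    obtain ⟨m, hm⟩ := exists_pow_eq_self_of_coprime (x := o) (cop oo (a + a'))
    have c : Commute o o' := by
      rw [← hm, e2]; exact ((Commute.refl o').pow_left _).pow_left _
    have e3 : o = o' := by
      have d1 : orderOf (o * o'⁻¹) ∣ 2 ^ (a + a') := orderOf_dvd_of_pow_eq_one (by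
        rw [c.inv_right.mul_pow, inv_pow, e2, mul_inv_cancel])
      have d2 : orderOf (o * o'⁻¹) ∣ orderOf o * orderOf o' := by
        have := c.inv_right.orderOf_mul_dvd_mul_orderOf
        rwa [orderOf_inv] at this
      exact mul_inv_eq_one.1 (orderOf_eq_one_iff.1
        (Nat.eq_one_of_dvd_coprimes (cop (oo.mul oo') _) d1 d2))
    subst e3
    obtain rfl := mul_right_cancel e1
    rfl
  · rintro ⟨s, hs⟩
    obtain ⟨k, hk⟩ := hy
    obtain ⟨a, m, hm, e⟩ := Nat.exists_eq_two_pow_mul_odd (orderOf_pos (y * s)).ne'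
    have q : (y * s) ^ 2 ^ k ∈ S := by
      rw [← QuotientGroup.eq_one_iff, QuotientGroup.mk_pow, QuotientGroup.mk_mul,
        (QuotientGroup.eq_one_iff s).2 hs, mul_one, ← QuotientGroup.mk_pow, hk]
      rfl
    have gs : y⁻¹ * (y * s) ∈ S := by simpa using hs
    have ge : s = y⁻¹ * (y * s) := by simp
    generalize y * s = g at e q gs ge
    have o1 : Odd (orderOf (g ^ 2 ^ a)) := hm.of_dvd_nat (orderOf_dvd_of_pow_eq_one (by
      rw [← pow_mul, ← e, pow_orderOf_eq_one]))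
    obtain ⟨j, hj⟩ := exists_pow_eq_self_of_coprime (x := g ^ 2 ^ a) (cop o1 a)
    have o2 : Odd (orderOf ((g ^ 2 ^ a) ^ j)) := o1.of_dvd_nat (orderOf_pow_dvd j)
    have c : Commute g ((g ^ 2 ^ a) ^ j) := ((Commute.refl g).pow_right _).pow_right _
    have p1 : ((g ^ 2 ^ a) ^ j) ^ 2 ^ a = g ^ 2 ^ a := by rw [pow_right_comm, hj]
    generalize (g ^ 2 ^ a) ^ j = o at o2 c p1
    have oS : o ∈ S := by
      obtain ⟨i, hi⟩ := exists_pow_eq_self_of_coprime (x := o) (cop o2 (a + k))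
      rw [← hi, pow_add, pow_mul, p1, pow_right_comm g]
      exact pow_mem (pow_mem q _) _
    refine ⟨⟨⟨g * o⁻¹, by rw [← mul_assoc]; exact mul_mem gs (inv_mem oS), a, by
      rw [c.inv_right.mul_pow, inv_pow, p1, mul_inv_cancel]⟩, o, oS,
      c.symm.mul_right (Commute.refl o).inv_right, o2⟩, Subtype.ext ?_⟩
    simp [f, ge, mul_assoc]

theorem nf0 (orb : OrbStmt.{u}) (syl : SylStmt.{u}) (uni : UniStmt.{u}) (odd : OddStmt.{u})
    (ord : Cfsg.Agent.Lead.Pc.OrdStmt.{u}) : Cfsg.Agent.Lead.Pc.NfStmt.{u} := by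
  intro G _ _ S T hS cp le two od y hy ny yN t ht s hs e
  have cc : ∀ y', y⁻¹ * y' ∈ S → Two y' → CC y y' := by
    intro y' h1 h2
    have q : (y : G ⧸ S) = y' := QuotientGroup.eq.2 h1
    have o := ord G S hS cp y y' hy h2 ny fun n => by
      rw [← QuotientGroup.eq_one_iff, ← QuotientGroup.eq_one_iff, QuotientGroup.mk_pow,
        QuotientGroup.mk_pow, q]
    obtain ⟨g, hg⟩ := cp y' y h2 o
    refine ⟨g, (eq_of_le_of_card_ge (zpowers_le.2 hg) ?_).symm⟩
    rw [Nat.card_zpowers, Nat.card_zpowers, ← o]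
    exact ((MulAut.conj g).orderOf_eq y).ge
  let Ω := {y' : G // y⁻¹ * y' ∈ S ∧ Two y'}
  let _ : MulAction S Ω :=
    { smul := fun a x => ⟨a * x.1 * (a : G)⁻¹, by
        have := mul_mem (mul_mem (hS.conj_mem _ a.2 y⁻¹) x.2.1) (inv_mem a.2)
        simpa [mul_assoc] using this, by
        obtain ⟨k, hk⟩ := x.2.2
        exact ⟨k, by rw [conj_pow, hk]; simp⟩⟩
      one_smul := fun x => Subtype.ext (by change ((1 : S) : G) * x.1 * ((1 : S) : G)⁻¹ = x.1; simp)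
      mul_smul := fun a b x => Subtype.ext (by
        change ((a * b : S) : G) * x.1 * ((a * b : S) : G)⁻¹ = a * (b * x.1 * (b : G)⁻¹) * (a : G)⁻¹
        simp [mul_assoc]) }
  have sm : ∀ (a : S) (x : Ω), (a • x).1 = a * x.1 * (a : G)⁻¹ := fun _ _ => rfl
  have pT : IsPGroup 2 (T ⊔ zpowers y : Subgroup G) := by
    obtain ⟨k, hk⟩ := hy
    refine IsPGroup.to_sup_of_normal_left' two ?_ (zpowers_le.2 yN)
    rintro ⟨_, n, rfl⟩
    exact ⟨k, Subtype.ext (by
      change (y ^ n) ^ 2 ^ k = 1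
      rw [← zpow_natCast, ← zpow_mul, mul_comm, zpow_mul, zpow_natCast, hk, one_zpow])⟩
  have tw : ∀ r ∈ T, Two (y * r) := fun r hr => by
    obtain ⟨k, hk⟩ := pT ⟨y * r, mul_mem (mem_sup_right (mem_zpowers y)) (mem_sup_left hr)⟩
    exact ⟨k, congrArg Subtype.val hk⟩
  obtain ⟨r, hr, er⟩ := orb S Ω (T.subgroupOf S) {x | y⁻¹ * x.1 ∈ T}
    (Nat.card ↥(S ⊓ centralizer {y})) (lo S y) two.comap_subtype (odd G S y)
    (cnt S y _ hy fun y' h1 h2 => (uni G S y y' (cc y' h1 h2)).1)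
    (fun x => by
      rw [← (uni G S y x.1 (cc x.1 x.2.1 x.2.2)).2]
      exact Nat.card_congr
        ⟨fun a => ⟨a.1.1, a.1.2, mem_centralizer_singleton_iff.2
            (mul_inv_eq_iff_eq_mul.1 (congrArg Subtype.val a.2))⟩,
          fun a => ⟨⟨a.1, a.2.1⟩, Subtype.ext
            (mul_inv_eq_iff_eq_mul.2 (mem_centralizer_singleton_iff.1 a.2.2))⟩,
          fun _ => rfl, fun _ => rfl⟩)
    (by
      rw [Nat.card_congr (subgroupOfEquivOfLe le).toEquiv]
      exact Nat.card_congr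
        ⟨fun x => ⟨y⁻¹ * x.1.1, x.2⟩,
          fun r => ⟨⟨y * r, by simpa using le r.2, tw r r.2⟩, by simp⟩,
          fun x => Subtype.ext (Subtype.ext (by simp)), fun r => Subtype.ext (by simp)⟩)
    (fun x hx a ha => by
      have h1 : y⁻¹ * a * y ∈ T := (mem_normalizer_iff''.1 yN _).1 ha
      have := mul_mem (mul_mem h1 hx) (inv_mem ha)
      change y⁻¹ * (a * x.1 * (a : G)⁻¹) ∈ T
      simpa [mul_assoc] using this)
    (fun x => by
      obtain ⟨a, ha, h1⟩ := syl G S T y ⟨le, two, od⟩ (by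
        rw [normalizer_eq_top]; trivial) yN hy x.1 x.2.1 x.2.2
      exact ⟨⟨a, ha⟩, h1⟩)
    ⟨y, by simp, hy⟩ (by simp) ⟨s, hs⟩ (by
      change y⁻¹ * (s * y * s⁻¹) ∈ T
      rw [e]; simpa using ht)
  exact ⟨r, hr, (congrArg Subtype.val er).trans e⟩

theorem nf : Cfsg.Agent.Lead.Pc.NfStmt.{u} :=
  nf0 Cfsg.Agent.H32.PcOrb.orb Cfsg.Agent.H76.PcSyl.syl Cfsg.Agent.H80.PcUni.uni
    Cfsg.Agent.H80.PcUni.odd Cfsg.Agent.H96.PlOrd.ord

end Cfsg.Agent.H87.PlNf
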