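import Cfsg.Agent.H87.SpOQ

/-!
The essential subgroups in odd characteristic.
-/

set_option autoImplicit false

namespace Cfsg.Agent.H87.SpOE

open Subgroup Cfsg.Agent.H83 Cfsg.Agent.H97 Cfsg.Agent.H96 Cfsg.Agent.H1.SP Cfsg.Agent.H87.SpOQ
open scoped commutatorElement

universe u

section general
variable {G : Type*} [Group G] [Finite G] {p : ℕ} [Fact p.Prime] {P : Subgroup G}
  {Γ : Subgroup (MulAut P)}

/-- an element acting trivially on the factors of an invariant chain lies in `P` -/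
theorem chain_mem (hG : IsPGroup p G) (h : Lc p P Γ) (C : ℕ → Subgroup G) (n : ℕ) (h0 : C 0 = ⊥)
    (hn : P ≤ C n) (hmono : ∀ i < n, C i ≤ C (i + 1))
    (hinv : ∀ i ≤ n, ∀ α ∈ Γ, ∀ x ∈ P, x ∈ C i → ext α x ∈ C i) {s : G}
    (hs : s ∈ normalizer (P : Set G))
    (e : ∀ i < n, ∀ x ∈ P, x ∈ C (i + 1) → x⁻¹ * (s * x * s⁻¹) ∈ C i) : s ∈ P := by
  have := h.rad _ (pCoreIn_le Γ) (le_normalizer_pCoreIn Γ) (isPGroup_pCoreIn p Γ)
    (mem_pCoreIn_of_chain_bot (hG.to_subgroup P) Γ C n h0 hn hmono hinv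
      (h.syl.le (conjAut_mem_autInducedBy (mem_top _) hs))
      fun i hi x hx hxi => by rw [ext_conjAut _ hx]; exact e i hi x hx hxi)
  rw [inn_eq_autInducedBy, mem_autInducedBy_iff] at this
  obtain ⟨g, hg, e'⟩ := this
  have h3 : g⁻¹ * s ∈ P := h.cent fun x hx => by
    have := e' x hx
    rw [ext_conjAut _ hx] at this
    calc x * (g⁻¹ * s) = g⁻¹ * (g * x * g⁻¹) * s := by group
      _ = _ := by rw [← this]; group
  have h4 := mul_mem hg h3
  rwa [mul_inv_cancel_left] at h4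

/-- L1 for a conjugate of a central element, modulo an invariant central subgroup -/
theorem l1 (hG : IsPGroup p G) (hX : IsSylowIn p (autInducedBy ⊤ P) Γ) {R : Subgroup G}
    (hRP : R ≤ P) (hR : Iv Γ R) (hc : ∀ r ∈ R, ∀ s, s * r = r * s) {γ : MulAut P} (hγ : γ ∈ Γ)
    {z : G} (hz : z ∈ P) (hzc : ∀ s, s * z = z * s) {s : G} (hs : s ∈ normalizer (P : Set G))
    (e : s * ext γ z * s⁻¹ * (ext γ z)⁻¹ ∈ R) : s * ext γ z * s⁻¹ = ext γ z := by
  set a := ext γ z with ha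
  have haP : a ∈ P := ext_mem γ hz
  have key : ∀ α : MulAut P, (∀ r ∈ R, ext α r = r) → ∀ b ∈ P, b * a⁻¹ ∈ R →
      ext α b * a⁻¹ = ext α a * a⁻¹ * (b * a⁻¹) := fun α hα b hb h => by
    have : ext α b = b * a⁻¹ * ext α a := by
      rw [← hα _ h, ← (homOn_ext α).map_mul (hRP h) haP, inv_mul_cancel_right]
    rw [this, mul_assoc, ← hc _ h]
  let C : Subgroup (MulAut P) :=
    { carrier := {α | α ∈ Γ ∧ (∀ r ∈ R, ext α r = r) ∧ ext α a * a⁻¹ ∈ R}
      one_mem' := ⟨one_mem _, fun r _ => ext_one r, by simp⟩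
      mul_mem' := fun {α β} h1 h2 => ⟨mul_mem h1.1 h2.1,
        fun r hr => by rw [ext_mul, h2.2.1 r hr, h1.2.1 r hr], by
          rw [ext_mul, key α h1.2.1 _ (ext_mem β haP) h2.2.2]
          exact mul_mem h1.2.2 h2.2.2⟩
      inv_mem' := fun {α} h1 => by
        have f : ∀ r ∈ R, ext α⁻¹ r = r := fun r hr => by
          conv_lhs => rw [← h1.2.1 r hr]
          exact ext_inv_ext α r
        refine ⟨inv_mem h1.1, f, ?_⟩
        have := key α⁻¹ f _ (ext_mem α haP) h1.2.2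
        rw [ext_inv_ext, mul_inv_cancel] at this
        rw [eq_inv_of_mul_eq_one_left this.symm]
        exact inv_mem h1.2.2 }
  let φ : C →* G := MonoidHom.mk' (fun α => ext α.1 a * a⁻¹) fun α β => by
    change ext (α.1 * β.1) a * a⁻¹ = _
    rw [ext_mul, key α.1 α.2.2.1 _ (ext_mem β.1 haP) β.2.2.2]
  have fx : ∀ α ∈ H83.cj γ (autInducedBy ⊤ P), ∀ y ∈ P, (∀ s, s * y = y * s) →
      ext α (ext γ y) = ext γ y := fun α hα y hy hyc => by
    obtain ⟨g, -, e⟩ := mem_autInducedBy_iff.1 (mem_cj.1 hα)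
    have := e y hy
    rw [hyc g, mul_inv_cancel_right, ext_mul, ext_mul] at this
    rw [← ext_ext_inv γ (ext α (ext γ y)), this]
  have := hom_triv (C := C) (hX.cj_of_mem hγ) (fun α h => h.1) (fun α hα =>
    ⟨(hX.cj_of_mem hγ).le hα, fun r hr => by
      have h1 := hR _ (inv_mem hγ) r hr
      have := fx α hα _ (hRP h1) (hc _ h1)
      rwa [ext_ext_inv] at this, by rw [ha, fx α hα z hz hzc, mul_inv_cancel]; exact one_mem _⟩)
    hG φ (fun α hα => by
      change ext α.1 a * a⁻¹ = 1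
      rw [ha, fx α.1 hα z hz hzc, mul_inv_cancel])
    ⟨conjAut P hs, hX.le (conjAut_mem_autInducedBy (mem_top _) hs),
      fun r hr => by rw [ext_conjAut _ (hRP hr), hc r hr, mul_inv_cancel_right],
      by rw [ext_conjAut _ haP]; exact e⟩
  change ext (conjAut P hs) a * a⁻¹ = 1 at this
  rwa [ext_conjAut _ haP, mul_inv_eq_one] at this

end general

variable {K : Type u} [Field K]

/-- the short chain -/
def ch2 (K : Type u) [Field K] : ℕ → Subgroup (U K)
  | 0 => ⊥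
  | 1 => Z K
  | _ => ⊤

theorem nrm_of {P : Subgroup (U K)} [Finite K] {s : U K} (h : ∀ x ∈ P, ⁅s, x⁆ ∈ P) :
    s ∈ normalizer (P : Set (U K)) :=
  mem_normalizer_fintype fun x hx => by
    have := mul_mem (h x hx) hx
    rwa [commutatorElement_def, inv_mul_cancel_right] at this

theorem Y_le [Finite K] {p : ℕ} [Fact p.Prime] [CharP K p] {P : Subgroup (U K)}
    {Γ : Subgroup (MulAut P)} (h : Lc p P Γ) (hZ : Z K ≤ P) (hI : Iv Γ (Z K)) : Y K ≤ P :=
  fun s hs => by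
    refine chain_mem (isP p) h (ch2 K) 2 rfl le_top ?_ ?_
      (nrm_of fun x _ => hZ ⟨by simp, by simp, by simp [hs.1, hs.2]⟩) ?_
    · intro i hi
      interval_cases i
      exacts [bot_le, le_top]
    · intro i hi α hα x hx hxi
      interval_cases i
      · rw [mem_bot.1 hxi]
        exact mem_bot.2 (homOn_ext α).map_one
      exacts [hI α hα x hxi, mem_top _]
    · intro i hi x hx hxi
      interval_cases i
      · rw [Z_comm hxi s]
        exact mem_bot.2 (by group)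
      · exact ⟨by simp, by simp, by simp [hs.1, hs.2]⟩

theorem oe (hs : SprStmt.{u}) : OeStmt.{u} := by
  intro K _ _ p _ _ hp P Γ h R hR hR0 hRP hI
  have h2 : (2 : K) ≠ 0 := fun e => hp ((Nat.prime_dvd_prime_iff_eq Fact.out Nat.prime_two).1
    ((CharP.cast_eq_zero_iff K p 2).1 (by exact_mod_cast e)))
  have hZ : Z K ≤ P := fun n hn => h.cent fun x _ => Z_comm hn x
  by_cases hA : P ≤ A K
  · refine Or.inl (le_antisymm hA fun a ha => h.cent fun x hx => ?_)
    have h1 : x.t = 0 := hA hx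
    have h3 : a.t = 0 := ha
    ext <;> simp [h1, h3, add_comm]
  obtain ⟨e, he, het⟩ := SetLike.not_le_iff_exists.1 hA
  rw [mem_A] at het
  have cz : ∀ x y : U K, x.t ≠ 0 → y.t = 0 → x * y = y * x → y ∈ Z K := fun x y hx hy hc => by
    have a1 := congrArg U.v hc
    have a2 := congrArg U.w hc
    simp only [mul_v, mul_w, hy] at a1 a2
    have b1 : y.u = 0 := (mul_eq_zero.1 (show x.t * y.u = 0 by
      linear_combination a1)).resolve_left hx
    rw [b1] at a2
    exact ⟨hy, b1, (mul_eq_zero.1 (show 2 * x.t * y.v = 0 by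
      linear_combination a2)).resolve_left (mul_ne_zero h2 hx)⟩
  by_cases hc : ∀ x ∈ P, (∀ y ∈ P, y * x = x * y) → x ∈ Z K
  · have hIZ : Iv Γ (Z K) := fun α _ n hn => hc _ (ext_mem α (hZ hn)) fun x hx => by
      have h1 := ext_mem α⁻¹ hx
      have := congrArg (ext α) (Z_comm hn (ext α⁻¹ x))
      rwa [(homOn_ext α).map_mul h1 (hZ hn), (homOn_ext α).map_mul (hZ hn) h1,
        ext_ext_inv] at this
    have hY := Y_le h hZ hIZ
    have hN : ∀ s, s ∈ normalizer (P : Set (U K)) := fun s =>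
      nrm_of fun x _ => hY ⟨by simp, by simp⟩
    obtain ⟨γ, hγ, y, hy, hb⟩ : ∃ γ ∈ Γ, ∃ y ∈ Y K, ext γ y ∉ Y K := by
      by_contra hcon
      push Not at hcon
      refine h.ne (eq_top_iff.2 fun s _ => chain_mem (isP p) h (ch K) 3 rfl le_top ?_ ?_ (hN s) ?_)
      · intro i hi
        interval_cases i
        exacts [bot_le, fun g hg => ⟨hg.1, hg.2.1⟩, le_top]
      · intro i hi α hα x hx hxi
        interval_cases i
        · rw [mem_bot.1 hxi]
          exact mem_bot.2 (homOn_ext α).map_one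
        exacts [hIZ α hα x hxi, hcon α hα x hxi, mem_top _]
      · intro i hi x hx hxi
        interval_cases i
        · rw [Z_comm hxi s]
          exact mem_bot.2 (by group)
        · obtain ⟨h1, h3⟩ := hxi
          exact ⟨by simp, by simp, by simp [h1, h3]; ring⟩
        · exact ⟨by simp, by simp⟩
    have hcm : ∀ x ∈ P, x.t * (ext γ y).u = (ext γ y).t * x.u := fun x hx => by
      have h1 := ext_mem γ⁻¹ hx
      have h3 : ⁅ext γ⁻¹ x, y⁆ ∈ Z K := ⟨by simp, by simp, by simp [hy.1, hy.2]⟩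
      have h4 := hIZ γ hγ _ h3
      rw [commutatorElement_def, (homOn_ext γ).map_mul (mul_mem (mul_mem h1 (hY hy)) (inv_mem h1))
        (inv_mem (hY hy)), (homOn_ext γ).map_mul (mul_mem h1 (hY hy)) (inv_mem h1),
        (homOn_ext γ).map_mul h1 (hY hy), (homOn_ext γ).map_inv h1, (homOn_ext γ).map_inv (hY hy),
        ext_ext_inv, ← commutatorElement_def] at h4
      exact sub_eq_zero.1 ((comm_v _ _).symm.trans h4.2.2)
    have hbt : (ext γ y).t ≠ 0 := fun h0 => hb ⟨h0, by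
      have := hcm e he
      rw [h0, zero_mul] at this
      exact (mul_eq_zero.1 this).resolve_left het⟩
    set l := (ext γ y).u / (ext γ y).t with hl
    have hQ : P ≤ Q l := fun x hx => by
      rw [mem_Q, hl, div_mul_eq_mul_div, eq_div_iff hbt]
      linear_combination -hcm x hx
    have I := spI l
    obtain ⟨σ, hσ⟩ := hs (U K) K p P (Z K) Γ U.t (fun k => ⟨0, 0, k, 0⟩) (fun c => ⟨0, -c, 0, 0⟩)
      ⟨hZ, fun s _ n hn => Z_comm hn s, fun a ha b hb => I.comm a (hQ ha) b (hQ hb),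
        fun _ _ _ _ => rfl, fun k => hY ⟨rfl, rfl⟩, I.zmul, I.zinj, fun a ha => I.ker a (hQ ha),
        fun c => hN _, fun c a ha => I.act c a (hQ ha), fun s _ k => I.fix s (nQ l s) k⟩
      h.syl hIZ ⟨γ, hγ, y.v, by
        have e : y = ⟨0, 0, y.v, 0⟩ * ⟨0, 0, 0, y.w⟩ := by ext <;> simp [hy.1, hy.2]
        have hz : (⟨0, 0, 0, y.w⟩ : U K) ∈ Z K := ⟨rfl, rfl, rfl⟩
        rwa [e, (homOn_ext γ).map_mul (hY ⟨rfl, rfl⟩) (hZ hz), mul_t, (hIZ γ hγ _ hz).1,
          add_zero] at hbt⟩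
    refine Or.inr ⟨l, le_antisymm hQ fun g hg => ?_⟩
    have := mul_mem (hσ.mem g.t) (hY (show (σ g.t)⁻¹ * g ∈ Y K from ⟨by simp [hσ.sec], by
      simp [mem_Q.1 (hQ (hσ.mem g.t)), mem_Q.1 hg, hσ.sec]⟩))
    rwa [mul_inv_cancel_left] at this
  · exfalso
    push Not at hc
    obtain ⟨x, hx, hxc, hxZ⟩ := hc
    have hxt : x.t ≠ 0 := fun h0 => hxZ (cz e x het h0 (hxc e he))
    have hPA : ∀ y ∈ P, y.t = 0 → y ∈ Z K := fun y hy h0 => cz x y hxt h0 (hxc y hy).symm
    have hRZ : R ≤ Z K := fun r hr => hPA r (hRP hr) (by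
      have h1 : ⁅r, (⟨0, 1, 0, 0⟩ : U K)⁆ ∈ R := by
        rw [commutatorElement_def, mul_assoc, mul_assoc, ← mul_assoc _ r⁻¹]
        exact mul_mem hr (hR.conj_mem _ (inv_mem hr) _)
      simpa using (hPA _ (hRP h1) (comm_t _ _)).2.2)
    obtain ⟨γ, hγ, z, hz, ha⟩ : ∃ γ ∈ Γ, ∃ z ∈ Z K, ext γ z ∉ Z K := by
      by_contra hcon
      push Not at hcon
      simpa using (hPA _ (Y_le h hZ hcon (show (⟨0, 0, 1, 0⟩ : U K) ∈ Y K from ⟨rfl, rfl⟩))
        rfl).2.2
    have hat : (ext γ z).t ≠ 0 := fun h0 => ha (hPA _ (ext_mem γ (hZ hz)) h0)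
    obtain ⟨⟨r, hr⟩, hr1⟩ := (ne_bot_iff_exists_ne_one.1 hR0)
    have e1 : ⁅(⟨0, 0, -r.w / (2 * (ext γ z).t), 0⟩ : U K), ext γ z⁆ = r := by
      ext
      · simp [(hRZ hr).1]
      · simp [(hRZ hr).2.1]
      · simp [(hRZ hr).2.2]
      · simp; field_simp
    have := l1 (isP p) h.syl hRP hI (fun r hr s => Z_comm (hRZ hr) s) hγ (hZ hz) (Z_comm hz)
      (s := ⟨0, 0, -r.w / (2 * (ext γ z).t), 0⟩)
      (nrm_of fun x _ => hZ ⟨by simp, by simp, by simp⟩) (by rwa [← commutatorElement_def, e1])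
    rw [commutatorElement_def, this, mul_inv_cancel] at e1
    exact hr1 (Subtype.ext e1.symm)

end Cfsg.Agent.H87.SpOE
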