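import Cfsg.Agent.H1.SpD

/-!
The automizer of `Q l` in odd characteristic.
-/

set_option autoImplicit false

namespace Cfsg.Agent.H87.SpOQ

open Subgroup Cfsg.Agent.H83 Cfsg.Agent.H97 Cfsg.Agent.H96 Cfsg.Agent.H1.SP
open scoped commutatorElement

universe u

variable {K : Type u} [Field K]

theorem isP [Finite K] (p : ℕ) [Fact p.Prime] [CharP K p] : IsPGroup p (U K) := by
  have := Fintype.ofFinite K
  obtain ⟨n, -, hn⟩ := FiniteField.card K p
  have e : U K ≃ K × K × K × K :=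
    ⟨fun g => (g.t, g.u, g.v, g.w), fun a => ⟨a.1, a.2.1, a.2.2.1, a.2.2.2⟩, fun _ => rfl,
      fun _ => rfl⟩
  refine IsPGroup.of_card (n := n * 4) ?_
  rw [Nat.card_congr e]
  simp only [Nat.card_eq_fintype_card, Fintype.card_prod, hn]
  ring

theorem Z_comm {n : U K} (hn : n ∈ Z K) (s : U K) : s * n = n * s := by
  obtain ⟨h1, h2, h3⟩ := hn
  ext <;> simp [h1, h2, h3, add_comm]

theorem nQ (l : K) (s : U K) : s ∈ normalizer (Q l : Set (U K)) :=
  mem_normalizer_iff.2 fun g => by simp [mem_Q]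

theorem Z_le (l : K) : Z K ≤ Q l := fun g hg => by rw [mem_Q, hg.1, hg.2.1, mul_zero]

theorem Z_inv (h2 : (2 : K) ≠ 0) {l : K} (α : MulAut (Q l)) {n : U K} (hn : n ∈ Z K) :
    ext α n ∈ Z K := by
  have hc : ∀ x ∈ Q l, x * ext α n = ext α n * x := fun x hx => by
    have h1 := ext_mem α⁻¹ hx
    have := congrArg (ext α) (Z_comm hn (ext α⁻¹ x))
    rwa [(homOn_ext α).map_mul h1 (Z_le l hn), (homOn_ext α).map_mul (Z_le l hn) h1,
      ext_ext_inv] at this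
  have hm : (ext α n).u = l * (ext α n).t := ext_mem α (Z_le l hn)
  have a1 := congrArg U.w (hc ⟨0, 0, 1, 0⟩ (by simp [mem_Q]))
  have a2 := congrArg U.w (hc ⟨1, l, 0, 0⟩ (by simp [mem_Q]))
  simp only [mul_w] at a1 a2
  have b1 : (ext α n).t = 0 := (mul_eq_zero.1 (show 2 * (ext α n).t = 0 by
    linear_combination -a1)).resolve_left h2
  rw [b1, mul_zero] at hm
  rw [b1, hm] at a2
  exact ⟨b1, hm, (mul_eq_zero.1 (show 2 * (ext α n).v = 0 by
    linear_combination a2)).resolve_left h2⟩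

/-- the chain -/
def ch (K : Type u) [Field K] : ℕ → Subgroup (U K)
  | 0 => ⊥
  | 1 => Z K
  | 2 => Y K
  | _ => ⊤

theorem conj_core [Finite K] {p : ℕ} [Fact p.Prime] [CharP K p] (h2 : (2 : K) ≠ 0) {l : K}
    {B : Subgroup (MulAut (Q l))} (hB : ∀ α ∈ B, ∀ x ∈ Y K, ext α x ∈ Y K) {κ : MulAut (Q l)}
    (hκ : κ ∈ B) {s : U K} (e : ∀ x ∈ Q l, ext κ x = s * x * s⁻¹) : κ ∈ pCoreIn p B := by
  refine mem_pCoreIn_of_chain_bot ((isP p).to_subgroup _) B (ch K) 3 rfl le_top ?_ ?_ hκ ?_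
  · intro i hi
    interval_cases i
    exacts [bot_le, fun g hg => ⟨hg.1, hg.2.1⟩, le_top]
  · intro i hi α hα x hx hxi
    interval_cases i
    · rw [mem_bot.1 hxi]
      exact mem_bot.2 (homOn_ext α).map_one
    exacts [Z_inv h2 α hxi, hB α hα x hxi, mem_top _]
  · intro i hi x hx hxi
    rw [e x hx]
    interval_cases i
    · rw [Z_comm hxi s]
      exact mem_bot.2 (by group)
    · obtain ⟨h1, h3⟩ := hxi
      exact ⟨by simp, by simp, by simp [h1, h3]; ring⟩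
    · exact ⟨by simp, by simp⟩

theorem spI (l : K) : SpI (Q l) (Z K) U.t (fun k => ⟨0, 0, k, 0⟩) fun c => ⟨0, -c, 0, 0⟩ where
  le := Z_le l
  cen s _ n hn := Z_comm hn s
  comm a ha b hb := ⟨by simp, by simp, by rw [comm_v, mem_Q.1 ha, mem_Q.1 hb]; ring⟩
  tmul _ _ _ _ := rfl
  zmem k := by simp [mem_Q]
  zmul k l := ⟨by simp, by simp, by simp⟩
  zinj k h := h.2.2
  ker a ha := ⟨fun h => ⟨a.v, by simp [h], by simp [mem_Q.1 ha, h], by simp⟩,
    fun ⟨k, h⟩ => by simpa using h.1⟩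
  xn c := nQ l _
  act c a _ := ⟨by simp, by simp, by simp; ring⟩
  fix s _ k := ⟨by simp, by simp, by simp; ring⟩

theorem act {l : K} {Γ : Subgroup (MulAut (Q l))} {σ : K → U K}
    (h : SpO Γ (Z K) U.t (fun k => ⟨0, 0, k, 0⟩) σ) {a b c d : K} (hd : a * d - b * c = 1) :
    ∃ α ∈ Γ, (∀ n ∈ Z K, ext α n = n) ∧ ∀ g ∈ Q l,
      (ext α g).t = a * g.t + b * (g.v - (σ g.t).v) ∧
      (ext α g).v = (σ (a * g.t + b * (g.v - (σ g.t).v))).v + c * g.t + d * (g.v - (σ g.t).v) := by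
  obtain ⟨α, hα, h1, h3⟩ := h.mat a b c d hd
  refine ⟨α, hα, h1, fun g hg => ?_⟩
  set k := g.v - (σ g.t).v with hk
  have hs := h.sec g.t
  have hu : (σ g.t).u = g.u := by rw [mem_Q.1 (h.mem _), hs, mem_Q.1 hg]
  have hm : σ g.t * ⟨0, 0, k, 0⟩ ∈ Q l := mul_mem (h.mem _) (by simp [mem_Q])
  have hn : (σ g.t * ⟨0, 0, k, 0⟩)⁻¹ * g ∈ Z K :=
    ⟨by simp [hs], by simp [hu], by simp [hs, hu, hk]; ring⟩
  have e : ext α g = ext α (σ g.t * ⟨0, 0, k, 0⟩) * ((σ g.t * ⟨0, 0, k, 0⟩)⁻¹ * g) := by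
    rw [← h1 _ hn, ← (homOn_ext α).map_mul hm (Z_le l hn), mul_inv_cancel_left]
  obtain ⟨c1, c2, c3⟩ := h3 g.t k
  have hs' := h.sec (a * g.t + b * k)
  rw [e, mul_t, mul_v, hn.1, hn.2.1, hn.2.2]
  simp only [mul_t, mul_u, mul_v, inv_t, inv_u, inv_v, hs'] at c1 c2 c3 ⊢
  exact ⟨by linear_combination c1,
    by linear_combination c3 + (a * g.t + b * k) * c2⟩

theorem oq (hs : SprStmt.{u}) : OqStmt.{u} := by
  intro K _ _ p _ _ hp l Γ h
  have h2 : (2 : K) ≠ 0 := fun e => hp ((Nat.prime_dvd_prime_iff_eq Fact.out Nat.prime_two).1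
    ((CharP.cast_eq_zero_iff K p 2).1 (by exact_mod_cast e)))
  obtain ⟨σ, hσ⟩ := hs (U K) K p (Q l) (Z K) Γ _ _ _ (spI l) h.syl (fun α _ n hn => Z_inv h2 α hn) (by
    by_contra hc
    push Not at hc
    have hX := h.syl.le (conjAut_mem_autInducedBy (mem_top _) (nQ l ⟨0, 1, 0, 0⟩))
    have := h.rad _ (pCoreIn_le Γ) (le_normalizer_pCoreIn Γ) (isPGroup_pCoreIn p Γ)
      (conj_core h2 (fun α hα y hy => ?_) hX fun x hx => ext_conjAut _ hx)
    · rw [inn_eq_autInducedBy, mem_autInducedBy_iff] at this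
      obtain ⟨g, hg, e⟩ := this
      have h3 : g⁻¹ * ⟨0, 1, 0, 0⟩ ∈ Q l := h.cent fun x hx => by
        have := e x hx
        rw [ext_conjAut _ hx] at this
        calc x * (g⁻¹ * ⟨0, 1, 0, 0⟩) = g⁻¹ * (g * x * g⁻¹) * ⟨0, 1, 0, 0⟩ := by group
          _ = _ := by rw [← this]; group
      have h4 := mul_mem hg h3
      rw [mul_inv_cancel_left, mem_Q] at h4
      simp at h4
    · have e : y = ⟨0, 0, y.v, 0⟩ * ⟨0, 0, 0, y.w⟩ := by ext <;> simp [hy.1, hy.2]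
      have hz : (⟨0, 0, 0, y.w⟩ : U K) ∈ Z K := ⟨rfl, rfl, rfl⟩
      have hz' : (⟨0, 0, y.v, 0⟩ : U K) ∈ Q l := by simp [mem_Q]
      have ht : (ext α y).t = 0 := by
        rw [e, (homOn_ext α).map_mul hz' (Z_le l hz), mul_t, hc α hα, (Z_inv h2 α hz).1, add_zero]
      refine ⟨ht, ?_⟩
      rw [mem_Q.1 (ext_mem α (show y ∈ Q l by rw [mem_Q, hy.1, hy.2, mul_zero])), ht, mul_zero])
  have s0 : (σ 0).v = 0 := by
    have := hσ.mul 0 0
    rw [add_zero, Cg, inv_mul_cancel_left] at this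
    exact this.2.2
  refine ⟨fun c => ?_, fun R hR hRQ hI => ?_⟩
  · obtain ⟨α, hα, h1, h3⟩ := act hσ (a := (c : K)⁻¹) (b := 0) (c := 0) (d := c) (by simp)
    simp only [zero_mul, add_zero] at h3
    have hYQ : ∀ g ∈ Y K, g ∈ Q l := fun g hg => by rw [mem_Q, hg.1, hg.2, mul_zero]
    have hQY : ∀ g ∈ Q l, g.t = 0 → g ∈ Y K := fun g hg ht => ⟨ht, by rw [mem_Q.1 hg, ht, mul_zero]⟩
    have hY : ∀ g ∈ Y K, ext α g ∈ Y K ∧ (ext α g).v = c * g.v := fun g hg => by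
      obtain ⟨a1, a2⟩ := h3 g (hYQ g hg)
      rw [hg.1, mul_zero] at a1 a2
      rw [s0, zero_add, sub_zero] at a2
      exact ⟨hQY _ (ext_mem α (hYQ g hg)) a1, a2⟩
    refine ⟨α, hα, fun s => ?_, h1, hY, fun g hg => by simpa using (h3 g hg).1⟩
    let B : Subgroup (MulAut (Q l)) :=
      { carrier := {γ | γ ∈ Γ ∧ ∀ x, ext γ x ∈ Y K ↔ x ∈ Y K}
        one_mem' := ⟨one_mem _, fun x => by rw [ext_one]⟩
        mul_mem' := fun ha hb => ⟨mul_mem ha.1 hb.1, fun x => by rw [ext_mul, ha.2, hb.2]⟩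
        inv_mem' := fun {a} ha => ⟨inv_mem ha.1, fun x => by rw [← ha.2, ext_ext_inv]⟩ }
    have mk : ∀ γ ∈ Γ, (∀ x ∈ Q l, (ext γ x).t = 0 ↔ x.t = 0) → γ ∈ B := fun γ hγ e =>
      ⟨hγ, fun x => by
        by_cases hx : x ∈ Q l
        · exact ⟨fun h => hQY x hx ((e x hx).1 h.1), fun h => hQY _ (ext_mem γ hx) ((e x hx).2 h.1)⟩
        · rw [ext_of_not_mem γ hx]⟩
    have hXB : autInducedBy ⊤ (Q l) ≤ pCoreIn p B := fun κ hκ => by
      obtain ⟨g, -, e⟩ := mem_autInducedBy_iff.1 hκ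
      exact conj_core h2 (fun α hα x hx => (hα.2 x).2 hx)
        (mk κ (h.syl.le hκ) fun x hx => by rw [e x hx]; simp) e
    have hE := h.syl.max _ ((pCoreIn_le B).trans fun γ hγ => hγ.1) (isPGroup_pCoreIn p B) hXB
    have := conj_mem_pCoreIn (mk α hα fun x hx => by rw [(h3 x hx).1]; simp)
      (hXB (conjAut_mem_autInducedBy (mem_top s) (nQ l s)))
    rw [hE, mem_autInducedBy_iff] at this
    obtain ⟨s', -, e⟩ := this
    refine ⟨s', fun x hx => ?_⟩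
    rw [← e _ (ext_mem α hx), ext_mul, ext_mul, ext_inv_ext, ext_conjAut _ hx]
  · by_cases hRZ : R ≤ Z K
    · exact Or.inl hRZ
    refine Or.inr (le_antisymm hRQ ?_)
    obtain ⟨r, hr, ht⟩ : ∃ r ∈ R, r.t ≠ 0 := by
      obtain ⟨r, hr, hz⟩ := SetLike.not_le_iff_exists.1 hRZ
      by_cases ht : r.t = 0
      · obtain ⟨α, hα, -, h3⟩ := act hσ (a := 0) (b := 1) (c := -1) (d := 0) (by simp)
        refine ⟨_, hI α hα r hr, ?_⟩
        rw [(h3 r (hRQ hr)).1, ht, s0]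
        intro h0
        exact hz ⟨ht, by rw [mem_Q.1 (hRQ hr), ht, mul_zero], by simpa using h0⟩
      · exact ⟨r, hr, ht⟩
    have hZ : Z K ≤ R := fun n hn => by
      have e : n = ⁅r, (⟨0, 0, n.w / (2 * r.t), 0⟩ : U K)⁆ := by
        ext
        · simp [hn.1]
        · simp [hn.2.1]
        · simp [hn.2.2]
        · simp; field_simp
      rw [e, commutatorElement_def, mul_assoc, mul_assoc, ← mul_assoc _ r⁻¹]
      exact mul_mem hr (hR.conj_mem _ (inv_mem hr) _)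
    have key : ∀ g ∈ Q l, g.t ≠ 0 → g ∈ R := fun g hg hgt => by
      obtain ⟨α, hα, -, h3⟩ := act hσ (a := g.t / r.t) (b := 0)
        (c := (g.v - (σ g.t).v - r.t / g.t * (r.v - (σ r.t).v)) / r.t) (d := r.t / g.t)
        (by field_simp; ring)
      obtain ⟨a1, a2⟩ := h3 r (hRQ hr)
      rw [zero_mul, add_zero, div_mul_cancel₀ _ ht] at a1 a2
      rw [div_mul_cancel₀ _ ht] at a2
      have a3 : (ext α r).u = g.u := by rw [mem_Q.1 (ext_mem α (hRQ hr)), a1, mem_Q.1 hg]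
      have a4 : (ext α r).v = g.v := by rw [a2]; ring
      have := mul_mem (hI α hα r hr) (hZ (show (ext α r)⁻¹ * g ∈ Z K from
        ⟨by simp [a1], by simp [a3], by simp [a1, a3, a4]⟩))
      rwa [mul_inv_cancel_left] at this
    intro g hg
    by_cases hgt : g.t = 0
    · have := mul_mem (key (g * r) (mul_mem hg (hRQ hr)) (by simpa [hgt] using ht)) (inv_mem hr)
      rwa [mul_inv_cancel_right] at this
    · exact key g hg hgt

end Cfsg.Agent.H87.SpOQ
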